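/-
The simple configuration: frames.
-/
import Cfsg.Agent.Lib.Fl.HDefs
import Cfsg.Agent.FT.Base.Prod

set_option autoImplicit false
set_option linter.unusedSectionVars false

namespace Cfsg.Agent.Lib.Fl2

open Cfsg.Agent.Lib.Fl (Sp)
open Subgroup Cfsg.Agent.Lib.Core Cfsg.Agent.Lib.Glaub Cfsg.Agent.Lib.ZJ Cfsg.Agent.FT
open scoped commutatorElement

universe u
variable {Γ : Type u} [Group Γ] [Finite Γ] {p r : ℕ} [hp : Fact p.Prime] [hr : Fact r.Prime]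
variable {Y R D R₁ D₁ : Subgroup Γ}

theorem comm_eq_of_syl {s : ℕ} [Fact s.Prime] {H P P' : Subgroup Γ} (a : CoprimeAct R H)
    (hP : IsSyl s P H) (hP' : IsSyl s P' H) (n : R ≤ 𝐍(P)) (n' : R ≤ 𝐍(P')) (h : ⁅P, R⁆ ≤ P') :
    ⁅P', R⁆ = ⁅P, R⁆ := by
  obtain ⟨c, hc, e⟩ := a.exists_conj_isSyl hP hP' n n'
  have e1 : cj(c, ⁅P, R⁆) = ⁅P', R⁆ := by rw [cj_comm, e, cj_eq_of_mem_cent hc.2]
  symm
  refine eq_of_le_of_card_ge ?_ (by rw [← e1, card_cj])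
  rw [← (a.mono_right hP.le n).commutator_commutator]
  exact commutator_mono h le_rfl

/-- factorisation `H = K C_H(R)`, prime by prime -/
theorem lemF {H K : Subgroup Γ} (a : CoprimeAct R H) (hK : K ≤ H) (hR : R ≤ 𝐍(K))
    (hs : ∀ s : ℕ, s.Prime → ∃ P, IsSyl s P H ∧ R ≤ 𝐍(P) ∧ ⁅P, R⁆ ≤ K) :
    IsProd K (H ⊓ 𝐂(R)) H := by
  refine isProd_of_card hK inf_le_left (le_of_eq ?_)
  rw [← inf_assoc, inf_eq_left.mpr hK]
  have c0 : ∀ X : Subgroup Γ, Nat.card X ≠ 0 := fun X => Nat.card_pos.ne'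
  refine Nat.eq_of_factorization_eq (mul_ne_zero (c0 _) (c0 _)) (mul_ne_zero (c0 _) (c0 _))
    fun s => ?_
  by_cases hs' : s.Prime
  swap
  · rw [Nat.factorization_eq_zero_of_not_prime _ hs', Nat.factorization_eq_zero_of_not_prime _ hs']
  have := Fact.mk hs'
  obtain ⟨P, hP, n, hPK⟩ := hs s hs'
  have aK := a.mono_right hK hR
  obtain ⟨P₁, hP₁, n₁, l₁⟩ := aK.exists_isSyl_ge (hP.isPGroup.to_le (comm_le_left n)) hPK
    (right_le_norm_comm P R)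
  obtain ⟨P', hP', n', l'⟩ := a.exists_isSyl_ge hP₁.isPGroup (hP₁.le.trans hK) n₁
  have e := comm_eq_of_syl a hP hP' n n' (l₁.trans l')
  have pr : IsProd P₁ (P' ⊓ 𝐂(R)) P' := by
    refine (IsProd.of_norm (A := ⁅P', R⁆) (B := P' ⊓ 𝐂(R)) (inf_le_left.trans (left_le_norm_comm _ _))
      ?_).mono (e.le.trans l₁) l' le_rfl inf_le_left
    rw [sup_comm]; exact (a.mono_right hP'.le n').inf_centralizer_sup_commutator
  have c := pr.card_mul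
  rw [← inf_assoc, inf_eq_left.mpr l', hP'.card_eq, hP₁.card_eq,
    (aK.isSyl_inf_centralizer hP₁ n₁).card_eq, (a.isSyl_inf_centralizer hP' n').card_eq,
    ← pow_add, ← pow_add] at c
  rw [Nat.factorization_mul (c0 _) (c0 _), Nat.factorization_mul (c0 _) (c0 _)]
  exact Nat.pow_right_injective hs'.two_le c

theorem comm_eq_of_prod {H K : Subgroup Γ} (h : IsProd K (H ⊓ 𝐂(R)) H) : ⁅H, R⁆ = ⁅K, R⁆ := by
  refine le_antisymm (commutator_le.mpr fun x hx y hy => ?_) (commutator_mono (le_sup_left.trans h.sup_eq.le) le_rfl)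
  obtain ⟨k, hk, c, hc, rfl⟩ := h.mem x hx
  have : ⁅k * c, y⁆ = ⁅k, y⁆ := by
    have := hc.2 y hy
    simp only [commutatorElement_def]
    rw [show k * c * y * (k * c)⁻¹ = k * (c * y) * c⁻¹ * k⁻¹ by group, ← this]; group
  rw [this]; exact commutator_mem_commutator hk hy

theorem isPGroup_of_card (hR : Nat.card R = r) : IsPGroup r R :=
  IsPGroup.of_card (n := 1) (by rw [hR, pow_one])

theorem SC.act (h : SC p r Y) (hR : Nat.card R = r) {H : Subgroup Γ} (hH : H ≤ Y) (hn : R ≤ 𝐍(H)) :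
    CoprimeAct R H :=
  coprimeAct_of_isPGroup_left (isPGroup_of_card hR) (not_dvd_card_of_le h.cop hH) hn

theorem SC.nY (h : SC p r Y) (X : Subgroup Γ) : X ≤ 𝐍(Y) := by
  have := h.normal
  exact le_top.trans (normalizer_eq_top Y).ge

theorem SC.card (h : SC p r Y) : Nat.card Γ = Nat.card Y * r := by
  rw [← h.idx, card_mul_index]

theorem SC.syl (h : SC p r Y) (hR : Nat.card R = r) {K : Subgroup Γ} (hK : R ≤ K) : IsSyl r R K := by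
  refine IsSyl.mono (H := ⊤) ⟨le_top, isPGroup_of_card hR, fun e => h.cop ?_⟩ hK le_top
  have := card_mul_relIndex (le_top : R ≤ ⊤)
  rw [card_top, h.card, hR, mul_comm] at this
  rwa [Nat.eq_of_mul_eq_mul_right hr.out.pos this] at e

theorem SC.sup (h : SC p r Y) (hR : Nat.card R = r) : Y ⊔ R = ⊤ := by
  refine eq_top_of_card_eq _ ?_
  have := card_sup_mul_card_inf (h.nY R)
  rw [(h.act hR le_rfl (h.nY R)).inf_eq_bot, card_bot, mul_one, hR, sup_comm] at this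
  rw [this, h.card, mul_comm]

/-- two subgroups of order `r` of `K` are conjugate under `K ⊓ Y` -/
theorem SC.conjR (h : SC p r Y) (hR : Nat.card R = r) (hR₁ : Nat.card R₁ = r) {K : Subgroup Γ}
    (a : R ≤ K) (b : R₁ ≤ K) : ∃ k ∈ Y ⊓ K, cj(k, R) = R₁ := by
  obtain ⟨k, hk, e⟩ := (h.syl hR a).exists_conj (h.syl hR₁ b)
  have : k ∈ Y ⊔ R := h.sup hR ▸ mem_top k
  obtain ⟨y, hy, x, hx, rfl⟩ := (mem_sup_of_le_normalizer_left (h.nY R)).mp this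
  refine ⟨y, ⟨hy, ?_⟩, ?_⟩
  · simpa using mul_mem hk (inv_mem (a hx))
  · rw [← e, ← cj_cj, cj_eq_of_mem hx]

theorem SC.exR (h : SC p r Y) : ∃ R : Subgroup Γ, Nat.card R = r := by
  obtain ⟨x, hx⟩ := exists_prime_orderOf_dvd_card' (G := Γ) r (h.card ▸ Dvd.intro_left _ rfl)
  exact ⟨zpowers x, by rw [Nat.card_zpowers, hx]⟩

theorem SC.exFr' (h : SC p r Y) (hR : Nat.card R = r) {U : Subgroup Γ} (hU : U ≤ Y)
    (h2 : IsPGroup 2 U) (hn : R ≤ 𝐍(U)) : ∃ D, Fr r Y R D ∧ ⁅U, R⁆ ≤ D := by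
  obtain ⟨T, hT, n, l⟩ := (h.act hR le_rfl (h.nY R)).exists_isSyl_ge h2 hU hn
  exact ⟨_, ⟨hR, T, hT, n, rfl⟩, commutator_mono l le_rfl⟩

theorem SC.exFr (h : SC p r Y) : ∃ R D, Fr r Y R D := by
  obtain ⟨R, hR⟩ := h.exR
  obtain ⟨D, f, -⟩ := h.exFr' hR bot_le IsPGroup.of_bot le_norm_bot
  exact ⟨R, D, f⟩

theorem Fr.le (f : Fr r Y R D) : D ≤ Y := by
  obtain ⟨T, hT, n, rfl⟩ := f.ex
  exact (comm_le_left n).trans hT.le

theorem Fr.two (f : Fr r Y R D) : IsPGroup 2 D := by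
  obtain ⟨T, hT, n, rfl⟩ := f.ex
  exact hT.isPGroup.to_le (comm_le_left n)

theorem Fr.inv (f : Fr r Y R D) : R ≤ 𝐍(D) := by
  obtain ⟨T, hT, n, rfl⟩ := f.ex
  exact right_le_norm_comm _ _

theorem Fr.conj (h : SC p r Y) (f : Fr r Y R D) (g : Γ) : Fr r Y cj(g, R) cj(g, D) := by
  obtain ⟨T, hT, n, rfl⟩ := f.ex
  exact ⟨by rw [card_cj, f.card], cj(g, T), hT.conj_of_mem_normalizer (h.nY ⊤ (mem_top g)),
    cj_le_norm_cj.mpr n, cj_comm _ _ _⟩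

theorem Fr.eq (h : SC p r Y) (f : Fr r Y R D) : ⁅D, R⁆ = D := by
  obtain ⟨T, hT, n, rfl⟩ := f.ex
  exact (h.act f.card hT.le n).commutator_commutator

theorem Fr.sp (h : SC p r Y) (f : Fr r Y R D) : Sp D R := by
  obtain ⟨T, hT, n, rfl⟩ := f.ex
  exact h.sp R f.card T hT.le hT.isPGroup n

theorem Fr.conjD (h : SC p r Y) (f : Fr r Y R D) (f₁ : Fr r Y R D₁) :
    ∃ c ∈ Y ⊓ 𝐂(R), cj(c, D) = D₁ := by
  obtain ⟨T, hT, n, rfl⟩ := f.ex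
  obtain ⟨T₁, hT₁, n₁, rfl⟩ := f₁.ex
  obtain ⟨c, hc, e⟩ := (h.act f.card le_rfl (h.nY R)).exists_conj_isSyl hT hT₁ n n₁
  exact ⟨c, hc, by rw [cj_comm, e, cj_eq_of_mem_cent hc.2]⟩

theorem Fr.conj_ex (h : SC p r Y) (f : Fr r Y R D) (f₁ : Fr r Y R₁ D₁) : ∃ g ∈ Y, cj(g, D) = D₁ := by
  obtain ⟨k, hk, e⟩ := h.conjR f.card f₁.card (K := ⊤) le_top le_top
  have f' := f.conj h k
  rw [e] at f'
  obtain ⟨c, hc, e'⟩ := f'.conjD h f₁
  exact ⟨c * k, mul_mem hc.1 hk.1, by rw [← cj_cj, e']⟩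

theorem Fr.max (h : SC p r Y) (f : Fr r Y R D) {U : Subgroup Γ} (hU : U ≤ Y) (h2 : IsPGroup 2 U)
    (hn : R ≤ 𝐍(U)) (hD : D ≤ U) : ⁅U, R⁆ = D := by
  obtain ⟨D', f', l⟩ := h.exFr' f.card hU h2 hn
  have l' : D ≤ ⁅U, R⁆ := (f.eq h).ge.trans (commutator_mono hD le_rfl)
  obtain ⟨c, -, e⟩ := f.conjD h f'
  have : D = D' := eq_of_le_of_card_ge (l'.trans l) (by rw [← e, card_cj])
  exact le_antisymm (this ▸ l) l'

theorem SC.norm_lt' (h : SC p r Y) {s : ℕ} [Fact s.Prime] {E : Subgroup Γ} (hE : E ≤ Y)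
    (h2 : IsPGroup s E) (h0 : E ≠ ⊥) : Y ⊓ 𝐍(E) < Y := by
  refine lt_of_le_of_ne inf_le_left fun e => ?_
  obtain rfl := (h.simple E hE (inf_eq_left.mp e)).resolve_left h0
  rcases h.simple (E ⊓ 𝐂(E)) inf_le_left (le_normalizer_inf le_normalizer
    (le_normalizer_centralizer le_normalizer)) with e | e
  · exact inf_centralizer_ne_bot h2 h2 le_normalizer h0 e
  · exact h.nab (inf_eq_left.mp e)

theorem SC.norm_lt (h : SC p r Y) {E : Subgroup Γ} (hE : E ≤ Y) (h2 : IsPGroup 2 E) (h0 : E ≠ ⊥) :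
    Y ⊓ 𝐍(E) < Y := h.norm_lt' hE h2 h0

theorem SC.comm_eq (h : SC p r Y) (hR : Nat.card R = r) : ⁅Y, R⁆ = Y := h.comm R hR

/-- `[S, R] ≤ O^{p'}([H, R])` -/
theorem star' {H S : Subgroup Γ} (hS : S ≤ H) (hp' : IsPGroup p S) (n : R ≤ 𝐍(S)) :
    ⁅S, R⁆ ≤ OupOf p ⁅H, R⁆ :=
  le_OupOf (hp'.to_le (comm_le_left n)) (commutator_mono hS le_rfl)

/-- factorisation in the configuration -/
theorem SC.fact (h : SC p r Y) (hR : Nat.card R = r) {H K T S : Subgroup Γ} (hH : H ≤ Y)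
    (hn : R ≤ 𝐍(H)) (hK : K ≤ H) (hKn : R ≤ 𝐍(K)) (hT : IsSyl 2 T H) (hTn : R ≤ 𝐍(T))
    (hTK : ⁅T, R⁆ ≤ K) (hS : IsSyl p S H) (hSn : R ≤ 𝐍(S)) (hSK : ⁅S, R⁆ ≤ K) :
    IsProd K (H ⊓ 𝐂(R)) H := by
  refine lemF (h.act hR hH hn) hK hKn fun s hs => ?_
  by_cases e2 : s = 2
  · subst e2; exact ⟨T, hT, hTn, hTK⟩
  by_cases ep : s = p
  · subst ep; exact ⟨S, hS, hSn, hSK⟩
  have := Fact.mk hs
  obtain ⟨P, hP, n⟩ := (h.act hR hH hn).exists_isSyl s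
  refine ⟨P, hP, n, ?_⟩
  rw [comm_eq_bot_iff.mpr (h.odd R hR s hs e2 ep P (hP.le.trans hH) hP.isPGroup n)]
  exact bot_le

/-- `D` normalizes no invariant `p`-subgroup outside `C(R)` -/
theorem Fr.nop (h : SC p r Y) (f : Fr r Y R D) {P : Subgroup Γ} (hP : P ≤ Y) (hp' : IsPGroup p P)
    (hn : R ≤ 𝐍(P)) (hD : D ≤ 𝐍(P)) : P ≤ 𝐂(R) := by
  obtain ⟨T, hT, nT, rfl⟩ := f.ex
  exact h.nop R f.card T hT nT P hP hp' hn hD

theorem Fr.ne (h : SC p r Y) (f : Fr r Y R D) : D ≠ ⊥ := by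
  rintro rfl
  obtain ⟨S, hS, n⟩ := (h.act f.card le_rfl (h.nY R)).exists_isSyl p
  obtain ⟨T, hT, nT, eT⟩ := f.ex
  have := comm_eq_of_prod (h.fact f.card le_rfl (h.nY R) bot_le le_norm_bot hT nT eT.ge hS n
    (comm_eq_bot_iff.mpr (f.nop h hS.le hS.isPGroup n bot_le)).le)
  rw [h.comm_eq f.card, commutator_bot_left] at this
  exact h.nab (this.le.trans bot_le)

theorem SC.r2 (h : SC p r Y) : r ≠ 2 := by
  rintro rfl
  obtain ⟨R, D, f⟩ := h.exFr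
  exact h.cop ((dvd_card_of_isPGroup_of_ne_bot f.two (f.ne h)).trans (card_dvd_of_le f.le))

theorem Fr.m1 (h : SC p r Y) (f : Fr r Y R D) {H : Subgroup Γ} (hH : H < Y) (hn : R ≤ 𝐍(H))
    (hD : D ≤ H) : ⁅H, R⁆ = D := by
  have a := h.act f.card hH.le hn
  have e := f.nop h ((OupOf_le _).trans ((comm_le_left hn).trans hH.le)) (h.prop R f.card H hH hn)
    (le_normalizer_OupOf (right_le_norm_comm H R))
    (le_normalizer_OupOf (hD.trans (left_le_norm_comm H R)))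
  obtain ⟨T, hT, n, l⟩ := a.exists_isSyl_ge f.two hD f.inv
  obtain ⟨S, hS, nS⟩ := a.exists_isSyl p
  have e' : ⁅S, R⁆ = ⊥ := by
    rw [← (a.mono_right hS.le nS).commutator_commutator]
    exact comm_eq_bot_iff.mpr ((star' hS.le hS.isPGroup nS).trans e)
  rw [comm_eq_of_prod (h.fact f.card hH.le hn hT.le n hT n (comm_le_left n) hS nS
    (e'.le.trans bot_le))]
  exact f.max h (hT.le.trans hH.le) hT.isPGroup n l

theorem Fr.le_norm (h : SC p r Y) (f : Fr r Y R D) {H : Subgroup Γ} (hH : H < Y) (hn : R ≤ 𝐍(H))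
    (hD : D ≤ H) : H ≤ 𝐍(D) := by
  rw [← f.m1 h hH hn hD]; exact left_le_norm_comm _ _

theorem SC.nN (h : SC p r Y) {X E : Subgroup Γ} (a : X ≤ 𝐍(E)) : X ≤ 𝐍(Y ⊓ 𝐍(E)) :=
  le_normalizer_inf (h.nY X) (le_normalizer_normalizer a)

theorem SC.nC (h : SC p r Y) {X E : Subgroup Γ} (a : X ≤ 𝐍(E)) : X ≤ 𝐍(Y ⊓ 𝐂(E)) :=
  le_normalizer_inf (h.nY X) (le_normalizer_centralizer a)

theorem Fr.norm_le (h : SC p r Y) (f : Fr r Y R D) {E : Subgroup Γ} (hE : E ≤ Y)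
    (h2 : IsPGroup 2 E) (h0 : E ≠ ⊥) (a : R ≤ 𝐍(E)) (c : D ≤ 𝐍(E)) : Y ⊓ 𝐍(E) ≤ 𝐍(D) :=
  f.le_norm h (h.norm_lt hE h2 h0) (h.nN a) (le_inf f.le c)

theorem Fr.l1 (h : SC p r Y) (f : Fr r Y R D) (f₁ : Fr r Y R₁ D₁) {E : Subgroup Γ} (hE : E ≤ Y)
    (h2 : IsPGroup 2 E) (h0 : E ≠ ⊥) (a : R ≤ 𝐍(E)) (b : R₁ ≤ 𝐍(E)) (c : D ≤ 𝐍(E)) (d : D₁ ≤ 𝐍(E)) :
    D = D₁ := by
  obtain ⟨k, hk, e⟩ := h.conjR f.card f₁.card a b
  have lt := h.norm_lt hE h2 h0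
  have e1 := f₁.m1 h lt (h.nN b) (le_inf f₁.le d)
  have e0 := f.m1 h lt (h.nN a) (le_inf f.le c)
  rw [← e1, ← e, ← cj_eq_of_mem hk, ← cj_comm, e0,
    cj_eq_of_mem_norm (f.norm_le h hE h2 h0 a c hk)]

theorem Fr.comm_M (h : SC p r Y) (f : Fr r Y R D) : ⁅Y ⊓ 𝐍(D), R⁆ = D :=
  f.m1 h (h.norm_lt f.le f.two (f.ne h)) (h.nN f.inv) (le_inf f.le le_normalizer)

/-- `M = D C_M(R)` -/
theorem Fr.dec (h : SC p r Y) (f : Fr r Y R D) {m : Γ} (hm : m ∈ Y ⊓ 𝐍(D)) :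
    ∃ u ∈ D, ∃ c ∈ Y ⊓ 𝐍(D) ⊓ 𝐂(R), u * c = m := by
  have := (h.act f.card inf_le_left (h.nN f.inv)).inf_centralizer_sup_commutator
  rw [f.comm_M h, sup_comm] at this
  exact (mem_sup_of_le_normalizer_left (inf_le_left.trans inf_le_right)).mp (this.ge hm)

theorem PS.fix (h : SC p r Y) (hR : Nat.card R = r) {A : Subgroup Γ} (hA : PS Y R A) :
    A ⊓ 𝐂(R) = ⊥ := by
  have := inf_centralizer_inf_commutator_eq_bot (isComm_iff_le_cent.mpr hA.ab) hA.inv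
    (h.act hR hA.le hA.inv).coprime
  rwa [hA.eq, inf_comm] at this

/-- a non-trivial invariant subgroup of a P-subgroup is everything -/
theorem PS.irr (h : SC p r Y) (hR : Nat.card R = r) {A B : Subgroup Γ} (hA : PS Y R A) (hB : B ≤ A)
    (n : R ≤ 𝐍(B)) (h0 : B ≠ ⊥) : B = A := by
  have e : ⁅B, R⁆ = B := by
    have := (h.act hR (hB.trans hA.le) n).inf_centralizer_sup_commutator
    rwa [le_bot_iff.mp ((inf_le_inf_right _ hB).trans (hA.fix h hR).le), bot_sup_eq] at this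
  exact le_antisymm hB (hA.eq.ge.trans (h.ab R hR B ⟨hB.trans hA.le, hA.two.to_le hB, h0,
    le_cent_of_le (hB.trans hA.ab) hB, n, e⟩ A (le_inf hA.le (le_cent_of_le hA.ab hB)) hA.two hA.inv))

theorem PS.zc (h : SC p r Y) (hR : Nat.card R = r) {A : Subgroup Γ} (hA : PS Y R A) :
    Y ⊓ 𝐍(A) ⊓ 𝐂(R) ≤ 𝐂(A) := by
  refine le_of_forall_isSyl fun q hq => ?_
  have := Fact.mk hq
  obtain ⟨P, hP⟩ := exists_isSyl q (Y ⊓ 𝐍(A) ⊓ 𝐂(R))
  refine ⟨P, hP, ?_⟩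
  by_cases e : q = 2
  · subst e
    rw [cent_comm, ← inf_eq_left]
    refine hA.irr h hR inf_le_left (le_normalizer_inf hA.inv (le_normalizer_centralizer
      ((cent_comm.mp (hP.le.trans inf_le_right)).trans (cent_le_norm P)))) ?_
    exact inf_centralizer_ne_bot hP.isPGroup hA.two (hP.le.trans (inf_le_left.trans inf_le_right))
      hA.ne
  · intro c hc
    refine h.zc R hR A hA c (hP.le hc) ?_
    obtain ⟨k, hk⟩ := pow_eq_one_of_isPGroup hP.isPGroup hc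
    exact Odd.of_dvd_nat ((hq.odd_of_ne_two e).pow) (orderOf_dvd_of_pow_eq_one hk)

/-- an abelian invariant `2`-subgroup not centralized by `R` yields a P-subgroup -/
theorem SC.ps (h : SC p r Y) (hR : Nat.card R = r) {B : Subgroup Γ} (hB : B ≤ Y) (h2 : IsPGroup 2 B)
    (ab : B ≤ 𝐂(B)) (n : R ≤ 𝐍(B)) (nc : ¬ B ≤ 𝐂(R)) : PS Y R ⁅B, R⁆ :=
  ⟨(comm_le_left n).trans hB, h2.to_le (comm_le_left n), fun e => nc (comm_eq_bot_iff.mp e),
    le_cent_of_le ((comm_le_left n).trans ab) (comm_le_left n), right_le_norm_comm _ _,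
    (h.act hR hB n).commutator_commutator⟩

theorem Fr.center (h : SC p r Y) (f : Fr r Y R D) (hn : ¬ D ≤ 𝐂(D)) : D ⊓ 𝐂(D) = D ⊓ 𝐂(R) := by
  refine le_antisymm (le_inf inf_le_left ?_) (le_inf inf_le_left (f.sp h).cent)
  by_contra nc
  have n : R ≤ 𝐍(D ⊓ 𝐂(D)) := le_normalizer_inf f.inv (le_normalizer_centralizer f.inv)
  have ps := h.ps f.card (inf_le_left.trans f.le) (f.two.to_le inf_le_left)
    (le_cent_of_le inf_le_right inf_le_left) n nc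
  have l : ⁅D ⊓ 𝐂(D), R⁆ ≤ 𝐂(D) := (comm_le_left n).trans inf_le_right
  exact hn ((f.eq h).ge.trans ((h.ab R f.card _ ps D (le_inf f.le (cent_comm.mp l)) f.two
    f.inv).trans l))

theorem Fr.Q_ne (h : SC p r Y) (f : Fr r Y R D) : D ⊓ 𝐂(D) ≠ ⊥ :=
  inf_centralizer_ne_bot f.two f.two le_normalizer (f.ne h)

theorem Fr.normQ (h : SC p r Y) (f : Fr r Y R D) (hn : ¬ D ≤ 𝐂(D)) :
    Y ⊓ 𝐍((D ⊓ 𝐂(D) : Subgroup Γ)) = Y ⊓ 𝐍(D) := by
  have n : ∀ X, X ≤ 𝐍(D) → X ≤ 𝐍((D ⊓ 𝐂(D) : Subgroup Γ)) := fun X a =>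
    le_normalizer_inf a (le_normalizer_centralizer a)
  exact le_antisymm (le_inf inf_le_left (f.norm_le h (inf_le_left.trans f.le)
    (f.two.to_le inf_le_left) (f.Q_ne h) (n _ f.inv) (n _ le_normalizer)))
    (inf_le_inf_left _ (n _ le_rfl))

end Cfsg.Agent.Lib.Fl2
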