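/-
The simple configuration: non-abelian frames for the same `R`.
-/
import Cfsg.Agent.Lib.Fl2.CS0

set_option autoImplicit false
set_option linter.unusedSectionVars false

namespace Cfsg.Agent.Lib.Fl2

open Cfsg.Agent.Lib.Fl (Sp)
open Subgroup Cfsg.Agent.Lib.Core Cfsg.Agent.Lib.Glaub Cfsg.Agent.Lib.ZJ Cfsg.Agent.FT
open scoped commutatorElement

universe u
variable {Γ : Type u} [Group Γ] [Finite Γ] {p r : ℕ} [hp : Fact p.Prime] [hr : Fact r.Prime]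
variable {Y R D R₁ D₁ : Subgroup Γ}

theorem zc_conj {d q : Γ} (hd : d ∈ D) (hq : q ∈ Zc D) : d * q * d⁻¹ = q := by
  rw [hq.2 d hd, mul_inv_cancel_right]

theorem zc_comm {d q : Γ} (hd : d ∈ D) (hq : q ∈ Zc D) : d * q = q * d := hq.2 d hd

theorem nzc {y q : Γ} (hy : y ∈ 𝐍(D)) (hq : q ∈ Zc D) : y * q * y⁻¹ ∈ Zc D :=
  conj_mem_of_mem_normalizer (norm_le_norm_Zc D hy) hq

theorem cm_left {A : Subgroup Γ} {a y : Γ} (ha : a ∈ A) (hy : y ∈ 𝐍(A)) : ⁅a, y⁆ ∈ A := by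
  rw [show ⁅a, y⁆ = a * (y * a⁻¹ * y⁻¹) by simp only [commutatorElement_def]; group]
  exact mul_mem ha (conj_mem_of_mem_normalizer hy (inv_mem ha))

theorem cm_right {A : Subgroup Γ} {a y : Γ} (ha : a ∈ A) (hy : y ∈ 𝐍(A)) : ⁅y, a⁆ ∈ A :=
  mul_mem (conj_mem_of_mem_normalizer hy ha) (inv_mem ha)

theorem cm_symm {A : Subgroup Γ} {a b : Γ} (h : ⁅a, b⁆ ∈ A) : ⁅b, a⁆ ∈ A := by
  rw [← commutatorElement_inv]; exact inv_mem h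

theorem comm_of_mem {A B : Subgroup Γ} (h : A ⊓ B = ⊥) {a b : Γ} (h1 : ⁅a, b⁆ ∈ A)
    (h2 : ⁅a, b⁆ ∈ B) : a * b = b * a :=
  commutatorElement_eq_one_iff_mul_comm.mp (mem_bot.mp (h ▸ (⟨h1, h2⟩ : _ ∈ A ⊓ B)))

theorem cm_one {A : Subgroup Γ} {a b : Γ} (h : a * b = b * a) : ⁅a, b⁆ ∈ A := by
  rw [commutatorElement_eq_one_iff_mul_comm.mpr h]; exact one_mem _

theorem norm_of_cj_le {H : Subgroup Γ} {g : Γ} (h : cj(g, H) ≤ H) : g ∈ 𝐍(H) :=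
  mem_normalizer_of_conj_mem (cj_le_iff.mp h)

theorem cj_le_of_cm {A E : Subgroup Γ} {g : Γ} (hA : A ≤ E) (h : ∀ a ∈ A, ⁅g, a⁆ ∈ E) :
    cj(g, A) ≤ E := cj_le_iff.mpr fun a ha => by
  rw [show g * a * g⁻¹ = ⁅g, a⁆ * a by simp only [commutatorElement_def]; group]
  exact mul_mem (h a ha) (hA ha)

/-- the elements of `D` fixed by `S` modulo the centre -/
def Wd (D : Subgroup Γ) (S : Set Γ) : Subgroup Γ where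
  carrier := {w | w ∈ D ∧ ∀ y ∈ S, ⁅w, y⁆ ∈ Zc D}
  one_mem' := ⟨one_mem _, fun y _ => by simp⟩
  mul_mem' := by
    rintro a b ⟨ha, h1⟩ ⟨hb, h2⟩
    refine ⟨mul_mem ha hb, fun y hy => ?_⟩
    rw [show ⁅a * b, y⁆ = a * ⁅b, y⁆ * a⁻¹ * ⁅a, y⁆ by simp only [commutatorElement_def]; group]
    exact mul_mem (nzc (le_normalizer ha) (h2 y hy)) (h1 y hy)
  inv_mem' := by
    rintro a ⟨ha, h1⟩
    refine ⟨inv_mem ha, fun y hy => ?_⟩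
    rw [show ⁅a⁻¹, y⁆ = a⁻¹ * ⁅a, y⁆⁻¹ * a⁻¹⁻¹ by simp only [commutatorElement_def]; group]
    exact nzc (le_normalizer (inv_mem ha)) (inv_mem (h1 y hy))

/-- the elements of `N(D)` fixing `W` modulo the centre -/
def Kd (D W : Subgroup Γ) : Subgroup Γ where
  carrier := {y | y ∈ 𝐍(D) ∧ ∀ w ∈ W, ⁅w, y⁆ ∈ Zc D}
  one_mem' := ⟨one_mem _, fun y _ => by simp⟩
  mul_mem' := by
    rintro a b ⟨ha, h1⟩ ⟨hb, h2⟩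
    refine ⟨mul_mem ha hb, fun w hw => ?_⟩
    rw [show ⁅w, a * b⁆ = ⁅w, a⁆ * (a * ⁅w, b⁆ * a⁻¹) by simp only [commutatorElement_def]; group]
    exact mul_mem (h1 w hw) (nzc ha (h2 w hw))
  inv_mem' := by
    rintro a ⟨ha, h1⟩
    refine ⟨inv_mem ha, fun w hw => ?_⟩
    rw [show ⁅w, a⁻¹⁆ = a⁻¹ * ⁅w, a⁆⁻¹ * a⁻¹⁻¹ by simp only [commutatorElement_def]; group]
    exact nzc (inv_mem ha) (inv_mem (h1 w hw))

theorem mem_Wd {S : Set Γ} {w : Γ} : w ∈ Wd D S ↔ w ∈ D ∧ ∀ y ∈ S, ⁅w, y⁆ ∈ Zc D := Iff.rfl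
theorem mem_Wd1 {w y : Γ} : w ∈ Wd D {y} ↔ w ∈ D ∧ ⁅w, y⁆ ∈ Zc D := by simp [mem_Wd]
theorem mem_Kd {W : Subgroup Γ} {y : Γ} : y ∈ Kd D W ↔ y ∈ 𝐍(D) ∧ ∀ w ∈ W, ⁅w, y⁆ ∈ Zc D := Iff.rfl
theorem Wd_le {S : Set Γ} : Wd D S ≤ D := fun _ h => h.1
theorem Kd_le {W : Subgroup Γ} : Kd D W ≤ 𝐍(D) := fun _ h => h.1
theorem Kd_anti {W W' : Subgroup Γ} (h : W ≤ W') : Kd D W' ≤ Kd D W :=
  fun _ hy => ⟨hy.1, fun w hw => hy.2 w (h hw)⟩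
theorem mem_Kd_Wd {S : Set Γ} {y : Γ} (hy : y ∈ S) (hn : y ∈ 𝐍(D)) : y ∈ Kd D (Wd D S) :=
  ⟨hn, fun _ hw => hw.2 y hy⟩
theorem Zc_le_Wd {S : Set Γ} (hS : ∀ y ∈ S, y ∈ 𝐍(D)) : Zc D ≤ Wd D S :=
  fun _ hq => ⟨hq.1, fun y hy => cm_left hq (norm_le_norm_Zc D (hS y hy))⟩

/-- `g` normalizes `Wd D S` if it normalizes `D` and commutes with `S` modulo inner elements -/
theorem norm_Wd {S : Set Γ} {g : Γ} (hg : g ∈ 𝐍(D)) (hS : ∀ y ∈ S, y ∈ 𝐍(D))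
    (h : ∀ y ∈ S, ⁅y⁻¹, g⁻¹⁆ ∈ Kd D D) : g ∈ 𝐍(Wd D S) := by
  refine mem_normalizer_of_conj_mem fun w hw => ⟨conj_mem_of_mem_normalizer hg hw.1, fun y hy => ?_⟩
  have h1 : y * ⁅y⁻¹, g⁻¹⁆ ∈ Kd D (Wd D S) := mul_mem (mem_Kd_Wd hy (hS y hy)) (Kd_anti Wd_le (h y hy))
  rw [show ⁅g * w * g⁻¹, y⁆ = g * ⁅w, y * ⁅y⁻¹, g⁻¹⁆⁆ * g⁻¹ by
    simp only [commutatorElement_def]; group]
  exact nzc hg (h1.2 w hw)

/-- a frame in a configuration all of whose frames are non-abelian -/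
structure NF (p r : ℕ) (Y R D : Subgroup Γ) : Prop where
  sc : SC p r Y
  all : ∀ R D : Subgroup Γ, Fr r Y R D → ¬ D ≤ 𝐂(D)
  fr : Fr r Y R D

namespace NF

theorem of_fr (f : NF p r Y R D) (f₁ : Fr r Y R₁ D₁) : NF p r Y R₁ D₁ := ⟨f.sc, f.all, f₁⟩
theorem card (f : NF p r Y R D) : Nat.card R = r := f.fr.card
theorem le (f : NF p r Y R D) : D ≤ Y := f.fr.le
theorem two (f : NF p r Y R D) : IsPGroup 2 D := f.fr.two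
theorem inv (f : NF p r Y R D) : R ≤ 𝐍(D) := f.fr.inv
theorem QR (f : NF p r Y R D) : Zc D = D ⊓ 𝐂(R) := f.fr.center f.sc (f.all _ _ f.fr)
theorem QC (f : NF p r Y R D) : Zc D ≤ 𝐂(R) := f.QR.le.trans inf_le_right
theorem memQ (f : NF p r Y R D) {d : Γ} (hd : d ∈ D) (h : d ∈ 𝐂(R)) : d ∈ Zc D := f.QR.ge ⟨hd, h⟩
theorem QY (f : NF p r Y R D) : Zc D ≤ Y := inf_le_left.trans f.le
theorem Q2 (f : NF p r Y R D) : IsPGroup 2 (Zc D) := f.two.to_le inf_le_left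
theorem sq (f : NF p r Y R D) {d : Γ} (hd : d ∈ D) : d * d ∈ Zc D :=
  f.memQ (mul_mem hd hd) ((f.fr.sp f.sc).sq d hd)
theorem cm (f : NF p r Y R D) {a b : Γ} (ha : a ∈ D) (hb : b ∈ D) : ⁅a, b⁆ ∈ Zc D :=
  f.memQ (cm_left ha (le_normalizer hb)) ((f.fr.sp f.sc).comm (commutator_mem_commutator ha hb))
theorem el (f : NF p r Y R D) {q : Γ} (hq : q ∈ Zc D) : q * q = 1 :=
  (f.fr.sp f.sc).el q (f.QR.le hq)
theorem RQ (f : NF p r Y R D) {A : Subgroup Γ} (h : A ≤ Zc D) : R ≤ 𝐍(A) :=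
  (cent_comm.mp (h.trans f.QC)).trans (cent_le_norm A)
theorem DK (f : NF p r Y R D) {W : Subgroup Γ} (hW : W ≤ D) : D ≤ Kd D W :=
  fun _ hd => ⟨le_normalizer hd, fun _ hw => f.cm (hW hw) hd⟩
theorem norm_of_Q (f : NF p r Y R D) {W : Subgroup Γ} (hQ : Zc D ≤ W) (hW : W ≤ D) : D ≤ 𝐍(W) :=
  fun _ hd => norm_of_cj_le (cj_le_of_cm le_rfl fun _ ha => hQ (f.cm hd (hW ha)))

theorem zp (f : NF p r Y R D) {z : Γ} (hz : z ∈ Zc D) :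
    zpowers z ≤ Y ∧ IsPGroup 2 (zpowers z) ∧ R ≤ 𝐍(zpowers z) ∧ D ≤ 𝐍(zpowers z) :=
  ⟨zpowers_le.mpr (f.QY hz), isPGroup_zpowers_of_mem f.Q2 hz, f.RQ (zpowers_le.mpr hz),
    le_norm_of_le_Zc (zpowers_le.mpr hz)⟩

theorem cent (f : NF p r Y R D) {z y : Γ} (hz : z ∈ Zc D) (h1 : z ≠ 1) (hy : y ∈ Y)
    (h : y * z = z * y) : y ∈ 𝐍(D) :=
  f.fr.norm_le f.sc (f.zp hz).1 (f.zp hz).2.1 (FT.zpowers_ne_bot.mpr h1) (f.zp hz).2.2.1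
    (f.zp hz).2.2.2 ⟨hy, cent_le_norm _ (by rw [cent_zpowers]; exact mem_C1.mpr h)⟩

theorem ti (f : NF p r Y R D) (f₁ : NF p r Y R₁ D₁) (hne : D ≠ D₁) : Zc D ⊓ Zc D₁ = ⊥ := by
  by_contra h0
  obtain ⟨z, hz, h1⟩ := exists_ne_one h0
  exact hne (f.fr.l1 f.sc f₁.fr (f.zp hz.1).1 (f.zp hz.1).2.1 (FT.zpowers_ne_bot.mpr h1)
    (f.zp hz.1).2.2.1 (f₁.zp hz.2).2.2.1 (f.zp hz.1).2.2.2 (f₁.zp hz.2).2.2.2)

/-- three subgroups -/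
theorem l3 (f : NF p r Y R D) {W : Subgroup Γ} (hW : W ≤ D) {c : Γ} (hc : c ∈ 𝐂(R))
    (h : c ∈ Kd D W) : c ∈ 𝐂(⁅W, R⁆) := by
  rw [← zpowers_le, cent_comm, cent_zpowers, commutator_le]
  intro w hw x hx
  have hq := inv_mem (h.2 w hw)
  have e1 : c * w * c⁻¹ = w * ⁅w, c⁆⁻¹ := by
    rw [zc_comm (hW hw) hq]; simp only [commutatorElement_def]; group
  have e2 := f.QC hq x hx
  have e3 := hc x hx
  rw [mem_C1_comm, mem_C1_comm, mem_C1]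
  symm
  rw [← mul_inv_eq_iff_eq_mul]
  calc c * ⁅w, x⁆ * c⁻¹ = (c * w * c⁻¹) * (c * x) * c⁻¹ * (c * w * c⁻¹)⁻¹ * ((c * x) * c⁻¹)⁻¹ := by
        simp only [commutatorElement_def]; group
    _ = w * (⁅w, c⁆⁻¹ * x) * ⁅w, c⁆⁻¹⁻¹ * w⁻¹ * x⁻¹ := by rw [e1, ← e3]; group
    _ = ⁅w, x⁆ := by rw [← e2]; simp only [commutatorElement_def]; group

theorem dec (f : NF p r Y R D) {m : Γ} (hY : m ∈ Y) (hm : m ∈ 𝐍(D)) :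
    ∃ u ∈ D, ∃ c ∈ Y ⊓ 𝐍(D) ⊓ 𝐂(R), u * c = m := f.fr.dec f.sc ⟨hY, hm⟩

theorem cK (f : NF p r Y R D) {W : Subgroup Γ} (hW : W ≤ D) {u c : Γ} (hu : u ∈ D)
    (h : u * c ∈ Kd D W) : c ∈ Kd D W := by
  simpa using mul_mem (inv_mem (f.DK hW hu)) h

theorem RW (f : NF p r Y R D) {S : Set Γ} (hS : ∀ y ∈ S, y ∈ Y ⊓ 𝐍(D)) : R ≤ 𝐍(Wd D S) := by
  refine fun x hx => norm_Wd (f.inv hx) (fun y hy => (hS y hy).2) fun y hy => f.DK le_rfl ?_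
  rw [← f.fr.comm_M f.sc]
  exact commutator_mem_commutator (inv_mem (hS y hy)) (inv_mem hx)

theorem act (f : NF p r Y R D) {H : Subgroup Γ} (hH : H ≤ Y) (hn : R ≤ 𝐍(H)) : CoprimeAct R H :=
  f.sc.act f.card hH hn

/-- `W = [W, R] Q` elementwise -/
theorem decW (f : NF p r Y R D) {W : Subgroup Γ} (hW : W ≤ D) (n : R ≤ 𝐍(W)) {w : Γ} (hw : w ∈ W) :
    ∃ x ∈ ⁅W, R⁆, ∃ q ∈ Zc D, x * q = w := by
  have := (f.act (hW.trans f.le) n).inf_centralizer_sup_commutator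
  rw [sup_comm] at this
  obtain ⟨x, hx, q, hq, e⟩ := (mem_sup_of_le_normalizer_left
    (inf_le_left.trans (left_le_norm_comm _ _))).mp (this.ge hw)
  exact ⟨x, hx, q, f.memQ (hW hq.1) hq.2, e⟩

theorem cmW (f : NF p r Y R D) {y d : Γ} (hy : y ∈ 𝐍(D)) (h2 : y * y ∈ Kd D D) (hd : d ∈ D) :
    ⁅y, d⁆ ∈ Wd D {y} := by
  refine mem_Wd1.mpr ⟨cm_right hd hy, ?_⟩
  rw [show ⁅⁅y, d⁆, y⁆ = ⁅y, d⁆ * ⁅y, d⁆ * ⁅d, y * y⁆ by simp only [commutatorElement_def]; group]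
  exact mul_mem (f.sq (cm_right hd hy)) (h2.2 d hd)

theorem le_of_M (f : NF p r Y R D) {X : Subgroup Γ} (e : ⁅X, R⁆ = X) (h : X ≤ Y ⊓ 𝐍(D)) : X ≤ D :=
  e.ge.trans ((commutator_mono h le_rfl).trans (f.fr.comm_M f.sc).le)

theorem cq (f : NF p r Y R D) (f₁ : NF p r Y R₁ D₁) (hne : D ≠ D₁) {e q : Γ} (he : e ∈ Zc D₁)
    (hn : e ∈ 𝐍(D)) (hq : q ∈ Zc D) (hq₁ : q ∈ 𝐍(D₁)) : e * q = q * e :=
  comm_of_mem (f.ti f₁ hne) (cm_right hq (norm_le_norm_Zc _ hn)) (cm_left he (norm_le_norm_Zc _ hq₁))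

theorem ex0 (f : NF p r Y R D) (f₁ : NF p r Y R₁ D₁) (h : Zc D₁ ⊓ 𝐍(D) ≠ ⊥) : Zc D ⊓ 𝐍(D₁) ≠ ⊥ := by
  obtain ⟨e, he, h1⟩ := exists_ne_one h
  obtain ⟨z, hz, z1⟩ := exists_ne_one (inf_centralizer_ne_bot (isPGroup_zpowers_of_mem f₁.Q2 he.1)
    f.Q2 (zpowers_le.mpr (norm_le_norm_Zc _ he.2)) (f.fr.Q_ne f.sc))
  exact ne_bot_of_mem ⟨hz.1, f₁.cent he.1 h1 (f.QY hz.1) (hz.2 e (mem_zpowers e)).symm⟩ z1

theorem l4key (f : NF p r Y R D) (f₁ : NF p r Y R D₁) {e d : Γ} (he : e ∈ Zc D₁ ⊓ 𝐍(D)) (h1 : e ≠ 1)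
    (hd : d ∈ D) : ∃ x ∈ D ⊓ D₁, ∃ q ∈ Zc D, x * q = ⁅e, d⁆ := by
  have n : R ≤ 𝐍(Wd D {e}) := f.RW fun y hy => hy ▸ ⟨f₁.QY he.1, he.2⟩
  obtain ⟨x, hx, q, hq, e1⟩ := f.decW Wd_le n (f.cmW he.2 (by rw [f₁.el he.1]; exact one_mem _) hd)
  have l : ⁅Wd D {e}, R⁆ ≤ D := (comm_le_left n).trans Wd_le
  refine ⟨x, ⟨l hx, f₁.le_of_M (f.act (Wd_le.trans f.le) n).commutator_commutator
    (fun w hw => ⟨f.le (l hw), f₁.cent he.1 h1 (f.le (l hw)) ?_⟩) hx⟩, q, hq, e1⟩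
  exact f.l3 Wd_le (f₁.QC he.1) (mem_Kd_Wd (Set.mem_singleton e) he.2) w hw

theorem l4half (f : NF p r Y R D) (f₁ : NF p r Y R D₁) (hne : D ≠ D₁) (h : Zc D₁ ⊓ 𝐍(D) ≠ ⊥) :
    D ≤ 𝐍((D ⊓ D₁) ⊔ ((Zc D ⊓ 𝐍(D₁)) ⊔ (Zc D₁ ⊓ 𝐍(D)))) := by
  have ti := f.ti f₁ hne
  have ab : ∀ x ∈ D ⊓ D₁, ∀ x' ∈ D ⊓ D₁, x * x' = x' * x := fun x hx x' hx' =>
    comm_of_mem ti (f.cm hx.1 hx'.1) (f₁.cm hx.2 hx'.2)
  intro d hd
  refine norm_of_cj_le ?_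
  rw [cj_sup, cj_sup]
  refine sup_le (cj_le_of_cm le_sup_left fun x hx => ?_) (sup_le
    (cj_le_of_cm (le_sup_left.trans le_sup_right) fun q hq => cm_one (zc_comm hd hq.1))
    (cj_le_of_cm (le_sup_right.trans le_sup_right) fun e he => ?_))
  · obtain ⟨e, he, h1⟩ := exists_ne_one h
    obtain ⟨x', hx', q, hq, e1⟩ := f.l4key f₁ he h1 hd
    have hc := f.cm hd hx.1
    refine mem_sup_right (mem_sup_left ⟨hc, f₁.cent he.1 h1 (f.QY hc) ?_⟩)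
    have e2 : ⁅e, d⁆ * x = x * ⁅e, d⁆ := by
      rw [← e1, mul_assoc, ← zc_comm hx.1 hq, ← mul_assoc, ab x' hx' x hx, mul_assoc]
    have e3 := zc_conj (cm_right hd he.2) hc
    have e4 := zc_comm hx.2 he.1
    symm
    rw [← mul_inv_eq_iff_eq_mul]
    calc e * ⁅d, x⁆ * e⁻¹ = (e * d * e⁻¹) * ((e * x) * e⁻¹) * (e * d * e⁻¹)⁻¹ * ((e * x) * e⁻¹)⁻¹ := by
          simp only [commutatorElement_def]; group
      _ = ⁅e, d⁆ * ⁅d, x⁆ * ⁅e, d⁆⁻¹ * (⁅e, d⁆ * x) * ⁅e, d⁆⁻¹ * x⁻¹ := by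
          rw [← e4]; simp only [commutatorElement_def]; group
      _ = ⁅d, x⁆ := by rw [e3, e2]; group
  · by_cases h1 : e = 1
    · exact cm_one (by simp [h1])
    obtain ⟨x, hx, q, hq, e1⟩ := f.l4key f₁ he h1 hd
    refine cm_symm (e1 ▸ mul_mem (mem_sup_left hx) (mem_sup_right (mem_sup_left
      ⟨hq, f₁.cent he.1 h1 (f.QY hq) ?_⟩)))
    have x2 : x * x = 1 := mem_bot.mp (ti ▸ (⟨f.sq hx.1, f₁.sq hx.2⟩ : _ ∈ Zc D ⊓ Zc D₁))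
    have e2 : e * (x * q) * e⁻¹ = (x * q)⁻¹ := by
      rw [e1, commutatorElement_def, show e * (e * d * e⁻¹ * d⁻¹) * e⁻¹ =
        (e * e) * d * (e * e)⁻¹ * e * d⁻¹ * e⁻¹ by group, f₁.el he.1]; group
    have e3 : (x * q)⁻¹ = x * q := by
      rw [inv_eq_iff_mul_eq_one, show x * q * (x * q) = x * (q * x) * q by group,
        ← zc_comm hx.1 hq, show x * (x * q) * q = (x * x) * (q * q) by group, x2, f.el hq, one_mul]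
    rw [e3, ← mul_assoc, ← zc_comm hx.2 he.1, mul_inv_eq_iff_eq_mul, mul_assoc, mul_assoc,
      mul_right_inj] at e2
    exact e2.symm

theorem l4 (f : NF p r Y R D) (f₁ : NF p r Y R D₁) (hne : D ≠ D₁) : Zc D₁ ⊓ 𝐍(D) = ⊥ := by
  by_contra h
  have a := f.l4half f₁ hne h
  have b := f₁.l4half f hne.symm (f.ex0 f₁ h)
  rw [inf_comm D₁ D, sup_comm (Zc D₁ ⊓ 𝐍(D))] at b
  have n : R ≤ 𝐍((D ⊓ D₁) ⊔ ((Zc D ⊓ 𝐍(D₁)) ⊔ (Zc D₁ ⊓ 𝐍(D)))) :=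
    le_normalizer_sup (le_normalizer_inf f.inv f₁.inv)
      (le_normalizer_sup (f.RQ inf_le_left) (f₁.RQ inf_le_left))
  refine hne (f.fr.l1 f.sc f₁.fr (sup_le (inf_le_left.trans f.le) (sup_le (inf_le_left.trans f.QY)
    (inf_le_left.trans f₁.QY))) ?_ (ne_bot_of_le (le_sup_right.trans le_sup_right) h) n n a b)
  refine (isPGroup_sup_of_le_normalizer (f₁.Q2.to_le inf_le_left) f.two
    (inf_le_right : Zc D₁ ⊓ 𝐍(D) ≤ _)).to_le ?_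
  exact sup_le (inf_le_left.trans le_sup_right) (sup_le
    (inf_le_left.trans (inf_le_left.trans le_sup_right)) le_sup_left)

theorem l5 (f : NF p r Y R D) (f₁ : NF p r Y R₁ D₁) (hne : D ≠ D₁) {z : Γ} (hz : z ∈ Zc D₁)
    (hn : z ∈ 𝐍(D)) (hc : z ∈ 𝐂(R)) : z = 1 := by
  by_contra h1
  obtain ⟨k, hk, e⟩ := f.sc.conjR f₁.card f.card (K := C1 z) (le_C1_iff.mpr (f₁.QC hz))
    (le_C1_iff.mpr hc)
  have f' := f₁.fr.conj f.sc k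
  rw [e, cj_eq_of_mem_norm (f₁.cent hz h1 hk.1 (mem_C1.mp hk.2))] at f'
  exact h1 (mem_bot.mp (f.l4 (f.of_fr f') hne ▸ (⟨hz, hn⟩ : _ ∈ Zc D₁ ⊓ 𝐍(D))))

theorem centR (f : NF p r Y R D) : Y ⊓ 𝐂(D) ≤ 𝐂(R) := by
  have n := f.sc.nC f.inv
  refine (f.act inf_le_left n).le_centralizer (le_trans (le_inf ?_ ?_) f.QC)
  · exact (commutator_mono (inf_le_inf_left _ (cent_le_norm D)) le_rfl).trans (f.fr.comm_M f.sc).le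
  · exact (comm_le_left n).trans inf_le_right

theorem l5' (f : NF p r Y R D) (f₁ : NF p r Y R₁ D₁) (hne : D ≠ D₁) {z : Γ} (hz : z ∈ Zc D₁)
    (hc : z ∈ 𝐂(D)) : z = 1 :=
  f.l5 f₁ hne hz (cent_le_norm D hc) (f.centR ⟨f₁.QY hz, hc⟩)

end NF

end Cfsg.Agent.Lib.Fl2
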