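/-
The simple configuration: P-subgroups of two frames.
-/
import Cfsg.Agent.Lib.Fl2.CS1

set_option autoImplicit false
set_option linter.unusedSectionVars false

namespace Cfsg.Agent.Lib.Fl2

open Cfsg.Agent.Lib.Fl (Sp)
open Subgroup Cfsg.Agent.Lib.Core Cfsg.Agent.Lib.Glaub Cfsg.Agent.Lib.ZJ Cfsg.Agent.FT
open scoped commutatorElement

universe u
variable {Γ : Type u} [Group Γ] [Finite Γ] {p r : ℕ} [hp : Fact p.Prime] [hr : Fact r.Prime]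
variable {Y R D R₁ D₁ P P₁ : Subgroup Γ}

/-- a good P-subgroup of the frame `(R, D)` with respect to `D₁` -/
structure GP (Y R D D₁ P : Subgroup Γ) : Prop where
  ps : PS Y R P
  le : P ≤ D
  nm : P ≤ 𝐍(D₁)
  a0 : D₁ ⊓ 𝐍(D) ≤ 𝐍(P ⊔ Zc D)

namespace NF

theorem W_eq (f : NF p r Y R D) {W : Subgroup Γ} (hQ : Zc D ≤ W) (hW : W ≤ D) (n : R ≤ 𝐍(W)) :
    ⁅W, R⁆ ⊔ Zc D = W := by
  refine le_antisymm (sup_le (comm_le_left n) hQ) fun w hw => ?_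
  obtain ⟨x, hx, q, hq, rfl⟩ := f.decW hW n hw
  exact mul_mem (mem_sup_left hx) (mem_sup_right hq)

theorem cP (f : NF p r Y R D) (h : PS Y R P) : D ⊓ 𝐂(P) ≤ P ⊔ Zc D := fun w hw => by
  have n : R ≤ 𝐍(D ⊓ 𝐂(P)) := le_normalizer_inf f.inv (le_normalizer_centralizer h.inv)
  obtain ⟨x, hx, q, hq, rfl⟩ := f.decW inf_le_left n hw
  exact mul_mem (mem_sup_left (f.sc.ab R f.card P h _ (inf_le_inf_right _ f.le)
    (f.two.to_le inf_le_left) n hx)) (mem_sup_right hq)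

theorem comm_le_P (f : NF p r Y R D) (h : PS Y R P) {X : Subgroup Γ} (hY : X ≤ Y) (hn : X ≤ 𝐍(D))
    (hc : X ≤ 𝐂(P)) (h2 : IsPGroup 2 X) : ⁅X, R⁆ ≤ P := by
  have l : X ⊔ D ≤ Y ⊓ 𝐍(D) := sup_le (le_inf hY hn) (le_inf f.le le_normalizer)
  have n : R ≤ 𝐍(X ⊔ D) := le_norm_iff_comm_le_left.mpr
    (((commutator_mono l le_rfl).trans (f.fr.comm_M f.sc).le).trans le_sup_right)
  refine (commutator_mono (le_inf le_sup_left hc) le_rfl).trans (f.sc.ab R f.card P h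
    ((X ⊔ D) ⊓ 𝐂(P)) (inf_le_inf_right _ (l.trans inf_le_left))
    ((isPGroup_sup_of_le_normalizer h2 f.two hn).to_le inf_le_left)
    (le_normalizer_inf n (le_normalizer_centralizer h.inv)))

theorem actK (f : NF p r Y R D) (h : PS Y R P) (hP : P ≤ D) {a : Γ} (hY : a ∈ Y) (hn : a ∈ 𝐍(D))
    (ha : a ∈ 𝐍(P ⊔ Zc D)) : a ∈ Kd D P := by
  obtain ⟨u, hu, c, hc, rfl⟩ := f.dec hY hn
  have hu' := f.norm_of_Q (le_sup_right : _ ≤ P ⊔ Zc D) (sup_le hP inf_le_left) hu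
  have hc' : c ∈ 𝐍(P ⊔ Zc D) := by simpa using mul_mem (inv_mem hu') ha
  have e : ⁅P ⊔ Zc D, R⁆ = P := by
    rw [comm_sup_cent f.QC, h.eq]
    rw [h.eq]; exact (le_cent_of_le inf_le_right hP).trans (cent_le_norm P)
  have hcP : c ∈ 𝐍(P) := by
    rw [← e]
    exact zpowers_le.mp (le_normalizer_commutator (zpowers_le.mpr hc')
      (zpowers_le.mpr (cent_le_norm R hc.2)))
  have := h.zc f.sc f.card ⟨⟨hc.1.1, hcP⟩, hc.2⟩
  exact mul_mem (f.DK hP hu) ⟨hc.1.2, fun w hw => cm_one (this w hw)⟩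

theorem gpK (f : NF p r Y R D) (f₁ : NF p r Y R₁ D₁) (g : GP Y R D D₁ P) : D₁ ⊓ 𝐍(D) ≤ Kd D P :=
  fun _ ha => f.actK g.ps g.le (f₁.le ha.1) ha.2 (g.a0 ha)

theorem gpE (f : NF p r Y R D) (f₁ : NF p r Y R₁ D₁) (hne : D ≠ D₁) (g : GP Y R D D₁ P) :
    Zc D₁ ⊓ 𝐍(D) ≤ 𝐂(P) := fun e he x hx =>
  comm_of_mem (f.ti f₁ hne) ((f.gpK f₁ g ⟨he.1.1, he.2⟩).2 x hx)
    (cm_right he.1 (norm_le_norm_Zc _ (g.nm hx)))

theorem fin_half (f : NF p r Y R D) (f₁ : NF p r Y R₁ D₁) (hne : D ≠ D₁) (g : GP Y R D D₁ P)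
    (g₁ : GP Y R₁ D₁ D P₁) : R ≤ 𝐍((P ⊔ P₁) ⊔ ((Zc D ⊓ 𝐍(D₁)) ⊔ (Zc D₁ ⊓ 𝐍(D)))) := by
  have c1 : P₁ ≤ 𝐂(P) := fun y hy x hx => comm_of_mem (f.ti f₁ hne)
    ((f.gpK f₁ g ⟨g₁.le hy, g₁.nm hy⟩).2 x hx) (cm_symm ((f₁.gpK f g₁ ⟨g.le hx, g.nm hx⟩).2 y hy))
  have l1 := f.comm_le_P g.ps g₁.ps.le g₁.nm c1 g₁.ps.two
  have l2 := f.comm_le_P g.ps (inf_le_left.trans f₁.QY) inf_le_right (f.gpE f₁ hne g)
    (f₁.Q2.to_le inf_le_left)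
  intro x hx
  refine norm_of_cj_le ?_
  rw [cj_sup, cj_sup, cj_sup, cj_eq_of_mem_norm (g.ps.inv hx),
    cj_eq_of_mem_norm (f.RQ inf_le_left hx)]
  refine sup_le (sup_le (le_sup_left.trans le_sup_left) (cj_le_of_cm (le_sup_right.trans le_sup_left)
    fun y hy => ?_)) (sup_le (le_sup_left.trans le_sup_right)
      (cj_le_of_cm (le_sup_right.trans le_sup_right) fun y hy => ?_))
  · exact cm_symm (mem_sup_left (mem_sup_left (l1 (commutator_mem_commutator hy hx))))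
  · exact cm_symm (mem_sup_left (mem_sup_left (l2 (commutator_mem_commutator hy hx))))

theorem final (f : NF p r Y R D) (f₁ : NF p r Y R₁ D₁) (hne : D ≠ D₁) (g : GP Y R D D₁ P)
    (g₁ : GP Y R₁ D₁ D P₁) : Zc D₁ ⊓ 𝐍(D) = ⊥ := by
  by_contra h0
  have h := f.sc
  have a := f.fin_half f₁ hne g g₁
  have b := f₁.fin_half f hne.symm g₁ g
  rw [sup_comm P₁ P, sup_comm (Zc D₁ ⊓ 𝐍(D))] at b
  set E := (P ⊔ P₁) ⊔ ((Zc D ⊓ 𝐍(D₁)) ⊔ (Zc D₁ ⊓ 𝐍(D))) with hE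
  have EY : E ≤ Y := sup_le (sup_le g.ps.le g₁.ps.le) (sup_le (inf_le_left.trans f.QY)
    (inf_le_left.trans f₁.QY))
  have E2 : IsPGroup 2 E := by
    refine (isPGroup_sup_of_le_normalizer (f₁.two.to_le inf_le_left) f.two
      (inf_le_right : D₁ ⊓ 𝐍(D) ≤ _)).to_le ?_
    exact sup_le (sup_le (g.le.trans le_sup_right) ((le_inf g₁.le g₁.nm).trans le_sup_left))
      (sup_le (inf_le_left.trans (inf_le_left.trans le_sup_right))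
        ((inf_le_inf_right _ inf_le_left).trans le_sup_left))
  have lt := h.norm_lt EY E2 (ne_bot_of_le (le_sup_right.trans le_sup_right) h0)
  have n := h.nN a
  have EN : E ≤ Y ⊓ 𝐍(E) := le_inf EY le_normalizer
  obtain ⟨k, hk, ek⟩ := h.conjR f.card f₁.card a b
  obtain ⟨T, hT, nT⟩ := (f.act lt.le n).exists_isSyl 2
  have ET : E ≤ T := hT.le_of_le_normalizer E2 EN (hT.le.trans inf_le_right)
  obtain ⟨S, hS, nS'⟩ := (f.act lt.le n).exists_isSyl p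
  have sy1 : OupOf p ⁅Y ⊓ 𝐍(E), R⁆ ≤ Y ⊓ 𝐍(E) := (OupOf_le _).trans (comm_le_left n)
  have sy2 := h.prop R f.card _ lt n
  have sy3 : Y ⊓ 𝐍(E) ≤ 𝐍(OupOf p ⁅Y ⊓ 𝐍(E), R⁆) := le_normalizer_OupOf (left_le_norm_comm _ _)
  have nS := hT.le.trans sy3
  have TY := hT.le.trans lt.le
  have pr := h.fact f.card lt.le n (K := OupOf p ⁅Y ⊓ 𝐍(E), R⁆ ⊔ T) (sup_le sy1 hT.le)
    (le_normalizer_sup (le_normalizer_OupOf (right_le_norm_comm _ _)) nT) hT nT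
    ((comm_le_left nT).trans le_sup_right) hS nS' ((star' hS.le hS.isPGroup nS').trans le_sup_left)
  obtain ⟨k₁, hk₁, c, hc, rfl⟩ := pr.mem k hk
  obtain ⟨s, hs, t, ht, rfl⟩ := (mem_sup_of_le_normalizer_left nS).mp hk₁
  have dT := (f.act TY nT).inf_centralizer_sup_commutator
  rw [sup_comm] at dT
  obtain ⟨b', hb, c', hc', rfl⟩ := (mem_sup_of_le_normalizer_left
    (inf_le_left.trans (left_le_norm_comm _ _))).mp (dT.ge ht)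
  obtain ⟨z, hz, z1⟩ := exists_ne_one h0
  have zE : z ∈ E := mem_sup_right (mem_sup_right hz)
  have : Fact (Nat.Prime 2) := ⟨Nat.prime_two⟩
  have sz : s * z = z * s := comm_of_mem (inf_eq_bot_of_isPGroup_of_not_dvd E2
    (not_dvd_card_of_isPGroup sy2 h.p2.symm)) (cm_right zE (sy1 hs).2)
    (cm_left hs (sy3 (EN zE)))
  have zc : z ∈ 𝐂(cj(b', R)) := by
    have h1 := f₁.QC hz.1
    rw [← ek, mul_assoc, mul_assoc, ← cj_cj, ← cj_cj, cj_eq_of_mem_cent (mul_mem hc'.2 hc.2),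
      ← cj_cent, mem_cj, mul_assoc, ← sz, inv_mul_cancel_left] at h1
    exact h1
  have bD : b' ∈ D := by
    obtain ⟨D₂, f₂, l₂⟩ := h.exFr' f.card TY hT.isPGroup nT
    by_cases e : D₂ = D
    · exact e ▸ l₂ hb
    have sp := h.sp R f.card T TY hT.isPGroup nT
    have PT : P ≤ ⁅T, R⁆ := g.ps.eq.ge.trans
      (commutator_mono ((le_sup_left.trans le_sup_left).trans ET) le_rfl)
    by_cases hq : ⁅T, R⁆ ⊓ 𝐂(R) = ⊥
    · have ab : ⁅T, R⁆ ≤ 𝐂(⁅T, R⁆) :=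
        comm_eq_bot_iff.mp (le_bot_iff.mp ((le_inf (der_le _) sp.comm).trans hq.le))
      have := h.ab R f.card P g.ps ⁅T, R⁆ (le_inf ((comm_le_left nT).trans TY) (le_cent_of_le ab PT))
        (hT.isPGroup.to_le (comm_le_left nT)) (right_le_norm_comm _ _)
      rw [(f.act TY nT).commutator_commutator] at this
      exact g.le (this hb)
    · exfalso
      obtain ⟨y, hy, y1⟩ := exists_ne_one (f.ex0 f₁ h0)
      have yT : y ∈ T := ET (mem_sup_right (mem_sup_left hy))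
      obtain ⟨q, hq', q1⟩ := exists_ne_one (inf_centralizer_ne_bot
        (isPGroup_zpowers_of_mem hT.isPGroup yT)
        (hT.isPGroup.to_le (inf_le_left.trans (comm_le_left nT)))
        (le_normalizer_inf (zpowers_le.mpr (left_le_norm_comm _ _ yT))
          (le_normalizer_of_le (zpowers_le.mpr (f.QC hy.1)))) hq)
      have f2 := f.of_fr f₂
      have := f2.cent (f2.memQ (l₂ hq'.1.1) hq'.1.2) q1 (f.QY hy.1) (hq'.2 y (mem_zpowers y))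
      exact y1 (mem_bot.mp (f2.l4 f e ▸ (⟨hy.1, this⟩ : _ ∈ Zc D ⊓ 𝐍(D₂))))
  have f' := f.fr.conj h b'
  rw [cj_eq_of_mem bD] at f'
  exact z1 ((f.of_fr f').l5 f₁ hne hz.1 hz.2 zc)

theorem Wd_eq (f : NF p r Y R D) {u c : Γ} (hu : u ∈ D) (hc : c ∈ 𝐍(D)) :
    Wd D {u * c} = Wd D {c} := by
  refine le_antisymm (fun w hw => mem_Wd1.mpr ⟨hw.1, ?_⟩) (fun w hw => mem_Wd1.mpr ⟨hw.1, ?_⟩)
  · exact (f.cK Wd_le hu (mem_Kd_Wd (Set.mem_singleton _) (mul_mem (le_normalizer hu) hc))).2 w hw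
  · exact (mul_mem (f.DK Wd_le hu) (mem_Kd_Wd (Set.mem_singleton _) hc)).2 w hw

theorem RW1 (f : NF p r Y R D) {y : Γ} (hY : y ∈ Y) (hn : y ∈ 𝐍(D)) : R ≤ 𝐍(Wd D {y}) :=
  f.RW fun _ hy => hy ▸ ⟨hY, hn⟩

theorem pt (f : NF p r Y R D) {y : Γ} (hY : y ∈ Y) (hn : y ∈ 𝐍(D)) (hQ : y ∈ 𝐂(Zc D))
    (h2 : y * y ∈ Kd D D) (h1 : y ∉ Kd D D) :
    PS Y R ⁅Wd D {y}, R⁆ ∧ Wd D {y} ≤ 𝐂(Wd D {y}) := by
  obtain ⟨u, hu, c, hc, rfl⟩ := f.dec hY hn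
  rw [f.Wd_eq hu hc.1.2]
  have n := f.RW1 hc.1.1 hc.1.2
  have c2 : c * c ∈ Kd D D := by
    refine f.cK le_rfl (mul_mem hu (conj_mem_of_mem_normalizer hc.1.2 hu)) ?_
    rwa [show u * (c * u * c⁻¹) * (c * c) = u * c * (u * c) by group]
  have cQ : c ∈ 𝐂(Zc D) := by simpa using mul_mem (inv_mem (le_cent_Zc D hu)) hQ
  have cP := f.l3 Wd_le hc.2 (mem_Kd_Wd (Set.mem_singleton c) hc.1.2)
  have We := f.W_eq (Zc_le_Wd (S := {c}) fun _ hy => hy ▸ hc.1.2) Wd_le n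
  have key : ∀ d ∈ D, ⁅c, d⁆ ∈ Zc (Wd D {c}) := fun d hd => by
    refine ⟨f.cmW hc.1.2 c2 hd, ?_⟩
    have hv := cm_right hd hc.1.2
    conv => enter [1, 1, 1, 1]; rw [← We]
    rw [SetLike.mem_coe, centralizer_sup]
    refine ⟨fun w hw => ?_, le_cent_Zc D hv⟩
    have hw' := Wd_le (comm_le_left n hw)
    have e1 := cQ _ (f.cm hw' hd)
    have e2 := cP w hw
    have e3 := zc_conj hv (f.cm hw' hd)
    rw [← commutatorElement_eq_one_iff_mul_comm, ← mul_left_inj ⁅w, d⁆, one_mul]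
    calc ⁅w, ⁅c, d⁆⁆ * ⁅w, d⁆ = ⁅w, ⁅c, d⁆⁆ * (⁅c, d⁆ * ⁅w, d⁆ * ⁅c, d⁆⁻¹) := by rw [e3]
      _ = (w * c) * d * (w * c)⁻¹ * c * d⁻¹ * c⁻¹ := by simp only [commutatorElement_def]; group
      _ = (c * ⁅w, d⁆) * c⁻¹ := by rw [e2]; simp only [commutatorElement_def]; group
      _ = ⁅w, d⁆ := by rw [← e1, mul_inv_cancel_right]
  have nZ : R ≤ 𝐍(Zc (Wd D {c})) := n.trans (norm_le_norm_Zc _)
  have ps := f.sc.ps f.card ((inf_le_left.trans Wd_le).trans f.le)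
    (f.two.to_le (inf_le_left.trans Wd_le)) (le_cent_of_le inf_le_right inf_le_left) nZ fun l =>
      h1 (mul_mem (f.DK le_rfl hu) ⟨hc.1.2, fun d hd =>
        cm_symm (f.memQ (cm_right hd hc.1.2) (l (key d hd)))⟩)
  have lZ : ⁅Zc (Wd D {c}), R⁆ ≤ 𝐂(Wd D {c}) := (comm_le_left nZ).trans inf_le_right
  have l := f.sc.ab R f.card _ ps (Wd D {c}) (le_inf (Wd_le.trans f.le) (cent_comm.mp lZ))
    (f.two.to_le Wd_le) n
  refine ⟨le_antisymm l (commutator_mono inf_le_left le_rfl) ▸ ps, ?_⟩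
  conv_lhs => rw [← We]
  exact sup_le (l.trans lZ) (le_cent_of_le inf_le_right Wd_le)

theorem dec2 (f : NF p r Y R D) {W : Subgroup Γ} (hW : W ≤ D) (n : R ≤ 𝐍(W)) {u c : Γ} (hu : u ∈ W)
    (hc : c ∈ Y ⊓ 𝐂(R)) (h : u * c ∈ Kd D W) :
    ∃ u' ∈ ⁅W, R⁆, ∃ c' ∈ Y ⊓ 𝐂(R) ⊓ 𝐂(⁅W, R⁆), u' * c' = u * c := by
  obtain ⟨x, hx, q, hq, rfl⟩ := f.decW hW n hu
  have h1 : q * c ∈ 𝐂(R) := mul_mem (f.QC hq) hc.2
  rw [mul_assoc] at h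
  exact ⟨x, hx, q * c, ⟨⟨mul_mem (f.QY hq) hc.1, h1⟩,
    f.l3 hW h1 (f.cK hW (hW (comm_le_left n hx)) h)⟩, (mul_assoc _ _ _).symm⟩

theorem dec3 (f : NF p r Y R D) {z : Γ} (hY : z ∈ Y) (hn : z ∈ 𝐍(D)) (h2 : z * z = 1) :
    ∃ u ∈ ⁅Wd D {z}, R⁆, ∃ c ∈ Y ⊓ 𝐂(R) ⊓ 𝐂(⁅Wd D {z}, R⁆), u * c = z := by
  obtain ⟨u, hu, c, hc, rfl⟩ := f.dec hY hn
  refine f.dec2 Wd_le (f.RW1 hY hn) (mem_Wd1.mpr ⟨hu, ?_⟩) ⟨hc.1.1, hc.2⟩
    (mem_Kd_Wd (Set.mem_singleton _) hn)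
  have e : u * (c * u * c⁻¹) = (c * c)⁻¹ := by
    rw [eq_inv_iff_mul_eq_one, ← h2]; group
  have hq : u * (c * u * c⁻¹) ∈ Zc D :=
    f.memQ (mul_mem hu (conj_mem_of_mem_normalizer hc.1.2 hu)) (e ▸ inv_mem (mul_mem hc.2 hc.2))
  rw [show ⁅u, u * c⁆ = (u * u) * (u * (c * u * c⁻¹))⁻¹ by simp only [commutatorElement_def]; group]
  exact mul_mem (f.sq hu) (inv_mem hq)

end NF

end Cfsg.Agent.Lib.Fl2
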