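/-
The simple configuration: a counting argument producing a good P-subgroup.
-/
import Cfsg.Agent.Lib.Fl2.CS2a

set_option autoImplicit false
set_option linter.unusedSectionVars false

namespace Cfsg.Agent.Lib.Fl2

open Cfsg.Agent.Lib.Fl (Sp)
open Subgroup Cfsg.Agent.Lib.Core Cfsg.Agent.Lib.Glaub Cfsg.Agent.Lib.ZJ Cfsg.Agent.FT
open scoped commutatorElement

universe u
variable {Γ : Type u} [Group Γ] [Finite Γ] {p r : ℕ} [hp : Fact p.Prime] [hr : Fact r.Prime]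
variable {Y R D R₁ D₁ P P₁ : Subgroup Γ}

theorem card_le_of_cm {W E : Subgroup Γ} {z : Γ} (h : ∀ w ∈ W, ⁅w, z⁆ ∈ E) :
    Nat.card W ≤ Nat.card E * Nat.card (W ⊓ C1 z : Subgroup Γ) := by
  classical
  let φ : W → E := fun w => ⟨⁅(w : Γ), z⁆, h w w.2⟩
  let s : E → W := Function.invFun φ
  have hs : ∀ w, φ (s (φ w)) = φ w := fun w => Function.invFun_eq ⟨w, rfl⟩
  have hm : ∀ w : W, ((s (φ w) : W) : Γ)⁻¹ * w ∈ W ⊓ C1 z := fun w => by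
    refine mem_inf.mpr ⟨mul_mem (inv_mem (s (φ w)).2) w.2, mem_C1_iff_conj.mpr ?_⟩
    have e : ⁅((s (φ w) : W) : Γ), z⁆ = ⁅(w : Γ), z⁆ := congrArg Subtype.val (hs w)
    calc _ = ((s (φ w) : W) : Γ)⁻¹ * ⁅(w : Γ), z⁆ * z * s (φ w) := by
          simp only [commutatorElement_def]; group
      _ = z := by rw [← e]; simp only [commutatorElement_def]; group
  rw [← Nat.card_prod]
  refine Nat.card_le_card_of_injective (fun w => (φ w, ⟨_, hm w⟩)) fun a b e => ?_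
  have e1 : φ a = φ b := congrArg Prod.fst e
  have e2 : ((s (φ a) : W) : Γ)⁻¹ * a = ((s (φ b) : W) : Γ)⁻¹ * b :=
    congrArg (fun x => (x.2 : Γ)) e
  rw [e1] at e2
  exact Subtype.ext (mul_left_cancel e2)

theorem comm_of_inv {a b : Γ} (ha : a * a = 1) (hb : b * b = 1) (h : a * b * (a * b) = 1) :
    a * b = b * a := by
  rw [← inv_eq_of_mul_eq_one_right h, mul_inv_rev, inv_eq_of_mul_eq_one_right ha,
    inv_eq_of_mul_eq_one_right hb]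

theorem lem_rho {W B U Q : Subgroup Γ} {ρ : Γ} (hρW : ρ ∈ 𝐍(W)) (hρQ : ρ ∈ 𝐂(Q)) (hUB : U ≤ B)
    (hQB : Q ≤ B) (hBW : B ≤ W) (e2 : ∀ b ∈ B, b * b = 1) (hC : ∀ u ∈ U, u ∉ Q → W ⊓ C1 u = B)
    (hne : ¬ U ≤ Q) (hc : Nat.card W * Nat.card Q ≤ Nat.card U * Nat.card B) (h1 : ρ ∉ 𝐍(B))
    (h2 : ρ * ρ ∉ 𝐍(B)) : False := by
  have e2' : ∀ g, ∀ b ∈ cj(g, B), b * b = 1 := fun g b hb => by
    have := e2 _ (mem_cj.mp hb)
    rwa [show g⁻¹ * b * g * (g⁻¹ * b * g) = g⁻¹ * (b * b) * g⁻¹⁻¹ by group, ← not_ne_iff,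
      conj_ne_one, not_ne_iff] at this
  have F : ∀ g ∈ 𝐍(W) ⊓ 𝐂(Q), ∀ x ∈ cj(g, U), x ∉ Q → W ⊓ C1 x = cj(g, B) := fun g hg x hx hQ => by
    rw [← hC _ (mem_cj.mp hx) fun e => hQ (by rwa [← mem_cj, cj_eq_of_mem_cent hg.2] at e), cj_inf,
      cj_C1, cj_eq_of_mem_norm hg.1]
    congr 2; group
  have G : ∀ g ∈ 𝐍(W) ⊓ 𝐂(Q), ∀ g' ∈ 𝐍(W), ∀ x ∈ cj(g, U), x ∉ Q → x ∈ cj(g', B) →
      cj(g', B) = cj(g, B) := fun g hg g' hg' x hx hQ hx' => by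
    refine eq_of_le_of_card_eq ?_ (by rw [card_cj, card_cj])
    rw [← F g hg x hx hQ]
    exact fun b hb => ⟨cj_le_of_le hBW hg' hb, mem_C1.mpr
      (comm_of_inv (e2' _ _ hb) (e2' _ _ hx') (e2' _ _ (mul_mem hb hx')))⟩
  have hρ : ρ ∈ 𝐍(W) ⊓ 𝐂(Q) := ⟨hρW, hρQ⟩
  have l : cj(ρ, U) ⊓ B ≤ Q := fun x hx => by
    by_contra hQ
    have := G ρ hρ 1 (one_mem _) x hx.1 hQ (by rw [cj_one]; exact hx.2)
    rw [cj_one] at this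
    exact h1 (cj_eq_iff.mp this.symm)
  have pr : IsProd cj(ρ, U) B W := isProd_of_card (cj_le_of_le (hUB.trans hBW) hρW) hBW
    ((Nat.mul_le_mul_left _ (card_le_of_le l)).trans (by rw [card_cj]; exact hc))
  obtain ⟨u, hu, hQ⟩ := SetLike.not_le_iff_exists.mp hne
  have hx : ρ * ρ * u * (ρ * ρ)⁻¹ ∈ cj(ρ * ρ, U) := conj_mem_cj.mpr hu
  have hρ2 := mul_mem hρ hρ
  have hxQ : ρ * ρ * u * (ρ * ρ)⁻¹ ∉ Q := fun e =>
    hQ (by rwa [← cj_eq_of_mem_cent hρ2.2, conj_mem_cj] at e)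
  obtain ⟨v, hv, b, hb, e⟩ := pr.mem _ (cj_le_of_le (hUB.trans hBW) hρ2.1 hx)
  rw [← e] at hx hxQ
  by_cases hvQ : v ∈ Q
  · have := G _ hρ2 1 (one_mem _) _ hx hxQ (by rw [cj_one]; exact mul_mem (hQB hvQ) hb)
    rw [cj_one] at this
    exact h2 (cj_eq_iff.mp this.symm)
  · have hv' := cj_mono ρ hUB hv
    have hb' : b ∈ cj(ρ, B) := F ρ hρ v hv hvQ ▸ ⟨hBW hb, mem_C1.mpr
      (comm_of_inv (e2' _ _ hv') (e2 b hb) (e2' _ _ (cj_mono _ hUB hx))).symm⟩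
    have := G _ hρ2 ρ hρW _ hx hxQ (mul_mem hv' hb')
    rw [← cj_cj, cj_eq_cj] at this
    exact h1 (cj_eq_iff.mp this.symm)

namespace NF

theorem inv_cm (f : NF p r Y R D) {a z : Γ} (h : ⁅a, z⁆ ∈ Zc D) (h2 : z * z = 1) :
    ⁅a, z⁆ * z = z * ⁅a, z⁆ := by
  have e : z * ⁅a, z⁆ * z⁻¹ = ⁅a, z⁆⁻¹ := by
    rw [commutatorElement_def, show z * (a * z * a⁻¹ * z⁻¹) * z⁻¹ =
      z * a * (z * z) * z⁻¹ * a⁻¹ * (z * z)⁻¹ by group, h2]; group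
  rw [inv_eq_of_mul_eq_one_right (f.el h), mul_inv_eq_iff_eq_mul] at e
  exact e.symm

theorem h1gp (f : NF p r Y R D) (f₁ : NF p r Y R₁ D₁) (hne : D ≠ D₁) (h0 : Zc D ⊓ 𝐍(D₁) ≠ ⊥)
    (hA : D₁ ⊓ 𝐍(D) ≤ 𝐂((Zc D ⊓ 𝐍(D₁) : Subgroup Γ))) (h2 : ∀ a ∈ D₁ ⊓ 𝐍(D), a * a = 1)
    (hc : Nat.card (Zc D₁ ⊓ 𝐍(D) : Subgroup Γ) ≤ Nat.card (Zc D ⊓ 𝐍(D₁) : Subgroup Γ)) :
    ∃ P₁, GP Y R₁ D₁ D P₁ := by
  set E := Zc D ⊓ 𝐍(D₁) with hE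
  have n : R₁ ≤ 𝐍(Wd D₁ E) := f₁.RW fun y hy => ⟨f.QY hy.1, hy.2⟩
  set W := ⁅Wd D₁ E, R₁⁆ with hW
  have WD : W ≤ D₁ := (comm_le_left n).trans Wd_le
  have nW : R₁ ≤ 𝐍(W) := right_le_norm_comm _ _
  set C := Y ⊓ 𝐂(R₁) ⊓ 𝐂(W) with hC
  have BA : W ⊓ 𝐍(D) ≤ D₁ ⊓ 𝐍(D) := inf_le_inf_right _ WD
  have dec : ∀ z ∈ E, ∃ u ∈ W ⊓ 𝐍(D), ∃ c ∈ C, u * c = z := fun z hz => by
    by_cases z1 : z = 1
    · exact ⟨1, one_mem _, 1, one_mem _, by rw [z1, one_mul]⟩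
    have cz : ∀ u ∈ D₁, ∀ c, u * c = c * u → u * c = z → u ∈ 𝐍(D) := fun u hu c e1 e2 =>
      f.cent hz.1 z1 (f₁.le hu) (by rw [← e2, mul_assoc, ← e1])
    obtain ⟨u, hu, c, hc, e⟩ := f₁.dec3 (f.QY hz.1) hz.2 (f.el hz.1)
    have hu' := Wd_le (comm_le_left (f₁.RW1 (f.QY hz.1) hz.2) hu)
    have uW : u ∈ Wd D₁ E := ⟨hu', fun y hy => cm_one (hA ⟨hu', cz u hu' c (hc.2 u hu) e⟩ y hy).symm⟩
    obtain ⟨u', hu'', c', hc', e'⟩ := f₁.dec2 Wd_le n uW hc.1 (e ▸ mem_Kd_Wd hz hz.2)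
    exact ⟨u', ⟨hu'', cz u' (WD hu'') c' (hc'.2 u' hu'') (e'.trans e)⟩, c', hc', e'.trans e⟩
  have nC : E ≤ 𝐍(C) := fun z hz => by
    obtain ⟨u, hu, c, hc, rfl⟩ := dec z hz
    exact mul_mem (cent_le_norm C (cent_comm.mp inf_le_right hu.1)) (le_normalizer hc)
  have EC : E ⊓ C = ⊥ := eq_bot_iff.mpr fun z hz => f₁.l5 f hne.symm hz.1.1 hz.1.2 hz.2.1.2
  set U := W ⊓ 𝐍(D) ⊓ (E ⊔ C) with hU
  have pr : IsProd U C (E ⊔ C) := by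
    refine ⟨inf_le_right, le_sup_right, fun x hx => ?_⟩
    obtain ⟨z, hz, c', hc', rfl⟩ := (mem_sup_of_le_normalizer_right nC).mp hx
    obtain ⟨u, hu, c, hc, e⟩ := dec z hz
    refine ⟨u, ⟨hu, ?_⟩, c * c', mul_mem hc hc', by rw [← mul_assoc, e]⟩
    rw [eq_mul_inv_of_mul_eq e]
    exact mul_mem (mem_sup_left hz) (mem_sup_right (inv_mem hc))
  have cU : Nat.card E * Nat.card (U ⊓ C : Subgroup Γ) = Nat.card U := by
    have a := pr.card_mul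
    have b := card_sup_mul_card_inf nC
    rw [EC, card_bot, mul_one] at b
    rw [b, mul_right_comm] at a
    exact Nat.eq_of_mul_eq_mul_right (card_pos C) a
  have cz : ∀ z ∈ E, z ≠ 1 → W ⊓ C1 z = W ⊓ 𝐍(D) := fun z hz z1 =>
    le_antisymm (fun w hw => ⟨hw.1, f.cent hz.1 z1 (f₁.le (WD hw.1)) (mem_C1.mp hw.2)⟩)
      fun w hw => ⟨hw.1, mem_C1.mpr (hA (BA hw) z hz).symm⟩
  obtain ⟨z, hz, z1⟩ := exists_ne_one h0
  have cW := card_le_of_cm (W := W) (E := Zc D₁ ⊓ 𝐍(D)) (z := z) fun w hw => by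
    have hq := (comm_le_left n hw).2 z hz
    exact ⟨hq, f.cent hz.1 z1 (f₁.QY hq) (f₁.inv_cm hq (f.el hz.1))⟩
  rw [cz z hz z1] at cW
  obtain ⟨u, hu, c, hc', e⟩ := dec z hz
  have uR : u ∉ 𝐂(R₁) := fun l => z1 (f₁.l5 f hne.symm hz.1 hz.2 (e ▸ mul_mem l hc'.1.2))
  have nB : R₁ ≤ 𝐍(W ⊓ 𝐍(D)) := by
    have pR : (Nat.card R₁).Prime := f₁.card ▸ hr.out
    intro ρ hρ
    by_contra h1
    refine lem_rho (U := U) (Q := U ⊓ C) (nW hρ)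
      (cent_comm.mp (inf_le_right.trans (inf_le_left.trans inf_le_right)) hρ) inf_le_left
      (inf_le_left.trans inf_le_left) inf_le_left (fun b hb => h2 b (BA hb)) (fun x hx hx' => ?_)
      (fun l => uR (l ⟨hu, ?_⟩).2.1.2) ?_ h1 fun h3 => h1 ?_
    · obtain ⟨y, hy, c₁, hc₁, rfl⟩ := (mem_sup_of_le_normalizer_right nC).mp hx.2
      rw [← cz y hy fun y1 => hx' ⟨hx, by rwa [y1, one_mul]⟩]
      ext w
      rw [mem_inf, mem_inf]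
      refine and_congr_right fun hw => ?_
      have := hc₁.2 w hw
      rw [mem_C1, mem_C1, mul_assoc, ← this, ← mul_assoc,
        ← mul_assoc, mul_left_inj]
    · rw [eq_mul_inv_of_mul_eq e]
      exact mul_mem (mem_sup_left hz) (mem_sup_right (inv_mem hc'))
    · rw [← cU, mul_right_comm]
      exact Nat.mul_le_mul_right _ (cW.trans (Nat.mul_le_mul_right _ hc))
    · have ρ1 : ρ ≠ 1 := fun e => h1 (e ▸ one_mem _)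
      have ρ2 : ρ * ρ ≠ 1 := fun e => f.sc.r2 (by
        rw [← f₁.card, ← zpowers_eq_of_card_prime pR hρ ρ1, Nat.card_zpowers]
        exact orderOf_eq_prime (by rw [pow_two, e]) ρ1)
      exact zpowers_le.mpr h3 ((zpowers_eq_of_card_prime pR (mul_mem hρ hρ) ρ2).ge hρ)
  have abA : D₁ ⊓ 𝐍(D) ≤ 𝐂((D₁ ⊓ 𝐍(D) : Subgroup Γ)) := fun a ha b hb =>
    comm_of_inv (h2 b hb) (h2 a ha) (h2 _ (mul_mem hb ha))
  have ps := f.sc.ps f₁.card ((BA.trans inf_le_left).trans f₁.le)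
    (f₁.two.to_le (BA.trans inf_le_left)) (le_cent_of_le (BA.trans abA) BA) nB fun l => uR (l hu)
  have PA := (comm_le_left nB).trans BA
  refine ⟨_, ps, PA.trans inf_le_left, PA.trans inf_le_right, ?_⟩
  have : ⁅W ⊓ 𝐍(D), R₁⁆ ⊔ Zc D₁ = (D₁ ⊓ 𝐍(D)) ⊔ Zc D₁ := le_antisymm (sup_le_sup_right PA _)
    (sup_le ((le_inf inf_le_left (le_cent_of_le abA PA)).trans (f₁.cP ps)) le_sup_right)
  rw [this]
  exact le_normalizer_sup (le_normalizer_inf inf_le_right (le_normalizer_of_le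
    (inf_le_left.trans le_normalizer))) (inf_le_right.trans (norm_le_norm_Zc _))

end NF

end Cfsg.Agent.Lib.Fl2
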