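/-
The simple configuration: the centre of a frame meets no other normalizer.
-/
import Cfsg.Agent.Lib.Fl2.CS2b

set_option autoImplicit false
set_option linter.unusedSectionVars false

namespace Cfsg.Agent.Lib.Fl2

open Cfsg.Agent.Lib.Fl (Sp)
open Subgroup Cfsg.Agent.Lib.Core Cfsg.Agent.Lib.Glaub Cfsg.Agent.Lib.ZJ Cfsg.Agent.FT
open scoped commutatorElement

universe u
variable {Γ : Type u} [Group Γ] [Finite Γ] {p r : ℕ} [hp : Fact p.Prime] [hr : Fact r.Prime]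
variable {Y R D R₁ D₁ P P₁ : Subgroup Γ}

namespace NF

theorem mkGP (f : NF p r Y R D) (f₁ : NF p r Y R₁ D₁) {y z : Γ} (hY : y ∈ Y) (hn : y ∈ 𝐍(D₁))
    (ps : PS Y R₁ ⁅Wd D₁ {y}, R₁⁆) (hz : z ∈ Zc D) (z1 : z ≠ 1) (hc : z ∈ 𝐂(⁅Wd D₁ {y}, R₁⁆))
    (ha : ∀ g ∈ D ⊓ 𝐍(D₁), ⁅y⁻¹, g⁻¹⁆ ∈ Kd D₁ D₁) : GP Y R₁ D₁ D ⁅Wd D₁ {y}, R₁⁆ := by
  have n := f₁.RW1 hY hn
  have hS : ∀ x ∈ ({y} : Set Γ), x ∈ 𝐍(D₁) := fun _ hx => hx ▸ hn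
  refine ⟨ps, (comm_le_left n).trans Wd_le, fun w hw => f.cent hz z1 (ps.le hw) (hc w hw), ?_⟩
  rw [f₁.W_eq (Zc_le_Wd hS) Wd_le n]
  exact fun g hg => norm_Wd hg.2 hS fun x hx => hx ▸ ha g hg

theorem QQ (f : NF p r Y R D) (f₁ : NF p r Y R₁ D₁) (hne : D ≠ D₁) (a : Zc D ≤ 𝐍(D₁))
    (b : Zc D₁ ≤ 𝐍(D)) : Zc D ≤ 𝐂(Zc D₁) := fun _ hz _ he => f.cq f₁ hne he (b he) hz (a hz)

theorem gpa (f : NF p r Y R D) (f₁ : NF p r Y R₁ D₁) (hne : D ≠ D₁) (a : Zc D ≤ 𝐍(D₁))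
    (b : Zc D₁ ≤ 𝐍(D)) (h : ¬ Zc D ≤ Kd D₁ D₁) : ∃ P₁, GP Y R₁ D₁ D P₁ := by
  obtain ⟨z, hz, h1⟩ := SetLike.not_le_iff_exists.mp h
  have pt := f₁.pt (f.QY hz) (a hz) (f.QQ f₁ hne a b hz) (by rw [f.el hz]; exact one_mem _) h1
  obtain ⟨u, hu, c, hc, e⟩ := f₁.dec3 (f.QY hz) (a hz) (f.el hz)
  refine ⟨_, f.mkGP f₁ (f.QY hz) (a hz) pt.1 hz (fun e => h1 (e ▸ one_mem _)) ?_ fun g hg =>
    cm_one (zc_comm (inv_mem hg.1) (inv_mem hz)).symm⟩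
  have := mul_mem (pt.1.ab hu) hc.2
  rwa [e] at this

theorem gpb (f : NF p r Y R D) (f₁ : NF p r Y R₁ D₁) (k : Zc D ≤ Kd D₁ D₁) {y : Γ}
    (hy : y ∈ D ⊓ 𝐍(D₁)) (hQ : y ∈ 𝐂(Zc D₁)) (h1 : y ∉ Kd D₁ D₁) : ∃ P₁, GP Y R₁ D₁ D P₁ := by
  have pt := f₁.pt (f.le hy.1) hy.2 hQ (k (f.sq hy.1)) h1
  obtain ⟨z, hz, z1⟩ := exists_ne_one (f.fr.Q_ne f.sc)
  refine ⟨_, f.mkGP f₁ (f.le hy.1) hy.2 pt.1 hz z1 ?_ fun g hg =>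
    k (f.cm (inv_mem hy.1) (inv_mem hg.1))⟩
  obtain ⟨u, hu, c, hc, rfl⟩ := f₁.dec (f.QY hz) (k hz).1
  have cD := f₁.l3 le_rfl hc.2 (f₁.cK le_rfl hu (k hz))
  rw [f₁.fr.eq f₁.sc] at cD
  have l := comm_le_left (f₁.RW1 (f.le hy.1) hy.2)
  refine mul_mem (cent_anti l (pt.2 ?_)) (cent_anti (l.trans Wd_le) cD)
  rw [← inv_mem_iff]
  refine mem_Wd1.mpr ⟨inv_mem hu, cm_left (inv_mem hu) hy.2, ?_⟩
  have e : ⁅u⁻¹, y⁆ = c * (y * c * y⁻¹)⁻¹ := by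
    calc ⁅u⁻¹, y⁆ = u⁻¹ * (y * (u * c)) * y⁻¹ * (y * c * y⁻¹)⁻¹ := by
          simp only [commutatorElement_def]; group
      _ = c * (y * c * y⁻¹)⁻¹ := by rw [zc_comm hy.1 hz]; group
  change _ ∈ 𝐂(D₁)
  rw [e]
  exact mul_mem cD (inv_mem (conj_mem_of_mem_normalizer
    (normalizer_le_normalizer_centralizer _ hy.2) cD))

theorem fullA (f : NF p r Y R D) (f₁ : NF p r Y R₁ D₁) (hne : D ≠ D₁) (a : Zc D ≤ 𝐍(D₁))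
    (b : Zc D₁ ≤ 𝐍(D)) (g : GP Y R D D₁ P) : ∃ P₁, GP Y R₁ D₁ D P₁ := by
  by_cases k : Zc D ≤ Kd D₁ D₁
  swap
  · exact f.gpa f₁ hne a b k
  have cP : Zc D₁ ≤ 𝐂(P) := (le_inf le_rfl b).trans (f.gpE f₁ hne g)
  by_cases k' : P ≤ Kd D₁ D₁
  swap
  · obtain ⟨y, hy, h1⟩ := SetLike.not_le_iff_exists.mp k'
    exact f.gpb f₁ k ⟨g.le hy, g.nm hy⟩ (cent_comm.mp cP hy) h1
  exfalso
  have l0 : P ⊔ Zc D ≤ P ⊔ (Zc D ⊔ Zc D₁) := sup_le_sup_left le_sup_left _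
  have l1 : Zc D₁ ≤ P ⊔ (Zc D ⊔ Zc D₁) := le_sup_right.trans le_sup_right
  have l2 : Zc D ≤ P ⊔ (Zc D ⊔ Zc D₁) := le_sup_left.trans le_sup_right
  have n : ∀ x, (∀ y ∈ P, ⁅x, y⁆ ∈ P ⊔ (Zc D ⊔ Zc D₁)) → (∀ y ∈ Zc D, ⁅x, y⁆ ∈ P ⊔ (Zc D ⊔ Zc D₁)) →
      (∀ y ∈ Zc D₁, ⁅x, y⁆ ∈ P ⊔ (Zc D ⊔ Zc D₁)) → x ∈ 𝐍(P ⊔ (Zc D ⊔ Zc D₁)) := fun x h1 h2 h3 => by
    refine norm_of_cj_le ?_
    rw [cj_sup, cj_sup]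
    exact sup_le (cj_le_of_cm le_sup_left h1) (sup_le (cj_le_of_cm l2 h2) (cj_le_of_cm l1 h3))
  have lM := f.fr.norm_le f.sc (E := P ⊔ (Zc D ⊔ Zc D₁)) (sup_le g.ps.le (sup_le f.QY f₁.QY))
    ((isPGroup_sup_of_le_normalizer f₁.Q2 f.two b).to_le (sup_le (g.le.trans le_sup_right)
      (sup_le (inf_le_left.trans le_sup_right) le_sup_left))) (ne_bot_of_le le_sup_left g.ps.ne)
    (fun x hx => n x (fun y hy => mem_sup_left (cm_right hy (g.ps.inv hx)))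
      (fun y hy => cm_one (f.QC hy x hx)) fun y hy => cm_symm (mem_sup_left
        (f.comm_le_P g.ps f₁.QY b cP f₁.Q2 (commutator_mem_commutator hy hx))))
    (fun d hd => n d (fun y hy => l2 (f.cm hd (g.le hy))) (fun y hy => cm_one (zc_comm hd hy))
      fun y hy => ?_)
  · obtain ⟨z, hz, z1⟩ := exists_ne_one (f.fr.Q_ne f.sc)
    refine z1 (f₁.l5' f hne.symm hz fun d hd => comm_of_mem (f.ti f₁ hne) (cm_right hz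
      (norm_le_norm_Zc _ (lM ⟨f₁.le hd, n d (fun y hy => l1 ((k' hy).2 d hd))
        (fun y hy => l1 ((k hy).2 d hd)) fun y hy => cm_one (zc_comm hd hy)⟩))) ((k hz).2 d hd))
  · by_cases ky : y ∈ Kd D D
    · exact l2 (ky.2 d hd)
    have y2 : y * y ∈ Kd D D := by rw [f₁.el hy]; exact one_mem _
    have pt := f.pt (f₁.QY hy) (b hy) (f₁.QQ f hne.symm b a hy) y2 ky
    have hv := f.cmW (b hy) y2 hd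
    exact cm_symm (l0 (f.cP g.ps ⟨hv.1, cent_anti
      (fun x hx => mem_Wd1.mpr ⟨g.le hx, cm_one (cP hy x hx)⟩) (pt.2 hv)⟩))

theorem cardQ (f : NF p r Y R D) (f₁ : NF p r Y R₁ D₁) : Nat.card (Zc D₁) = Nat.card (Zc D) := by
  obtain ⟨g, -, e⟩ := f.fr.conj_ex f.sc f₁.fr
  rw [← e, ← cj_Zc, card_cj]

theorem fullB (f : NF p r Y R D) (f₁ : NF p r Y R₁ D₁) (hne : D ≠ D₁) (a : Zc D ≤ 𝐍(D₁))
    (b : Zc D₁ ≤ 𝐍(D)) : (∃ P, GP Y R D D₁ P) ∨ ∃ P₁, GP Y R₁ D₁ D P₁ := by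
  by_cases k : Zc D ≤ Kd D₁ D₁
  swap
  · exact Or.inr (f.gpa f₁ hne a b k)
  have cA : D₁ ⊓ 𝐍(D) ≤ 𝐂(Zc D) := fun x hx z hz => (comm_of_mem (f.ti f₁ hne)
    (cm_right hz (norm_le_norm_Zc _ hx.2)) ((k hz).2 x hx.1)).symm
  by_cases k₁ : Zc D₁ ≤ Kd D D
  swap
  · exact Or.inl (f₁.gpa f hne.symm b a k₁)
  by_cases k' : D₁ ⊓ 𝐍(D) ≤ Kd D D
  swap
  · obtain ⟨y, hy, h1⟩ := SetLike.not_le_iff_exists.mp k'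
    exact Or.inl (f₁.gpb f k₁ hy (cA hy) h1)
  refine Or.inr (f.h1gp f₁ hne (by rw [inf_eq_left.mpr a]; exact f.fr.Q_ne f.sc)
    (le_cent_of_le cA inf_le_left) (fun x hx => f.l5' f₁ hne (f₁.sq hx.1) fun d hd => ?_)
    (by rw [inf_eq_left.mpr a, inf_eq_left.mpr b, f.cardQ f₁]))
  have hq := (k' hx).2 d hd
  rw [← commutatorElement_eq_one_iff_mul_comm, ← f.el hq]
  calc ⁅d, x * x⁆ = ⁅d, x⁆ * (x * ⁅d, x⁆) * x⁻¹ := by simp only [commutatorElement_def]; group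
    _ = ⁅d, x⁆ * ⁅d, x⁆ := by rw [← cA hx _ hq]; group

theorem pc1 (f : NF p r Y R D) (f₁ : NF p r Y R₁ D₁) (b : ¬ Zc D₁ ≤ 𝐍(D)) :
    Nat.card (Zc D ⊓ 𝐍(D₁) : Subgroup Γ) ≤ Nat.card (Zc D₁ ⊓ 𝐍(D) : Subgroup Γ) := by
  obtain ⟨z, hz, hz'⟩ := SetLike.not_le_iff_exists.mp b
  have := card_le_of_cm (W := Zc D ⊓ 𝐍(D₁)) (E := Zc D₁ ⊓ 𝐍(D)) (z := z) fun e he => by
    by_cases e1 : e = 1
    · exact cm_one (by simp [e1])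
    have hq := cm_left hz (norm_le_norm_Zc _ he.2)
    exact cm_symm ⟨hq, f.cent he.1 e1 (f₁.QY hq) (f₁.inv_cm hq (f.el he.1))⟩
  have e0 : Zc D ⊓ 𝐍(D₁) ⊓ C1 z = ⊥ := eq_bot_iff.mpr fun e he => by
    by_contra e1
    exact hz' (f.cent he.1.1 e1 (f₁.QY hz) (mem_C1.mp he.2).symm)
  rwa [e0, card_bot, mul_one] at this

theorem pc2 (f : NF p r Y R D) (f₁ : NF p r Y R₁ D₁) (b : ¬ Zc D₁ ≤ 𝐍(D)) : ¬ Zc D ≤ 𝐍(D₁) := by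
  intro a
  have := f.pc1 f₁ b
  rw [inf_eq_left.mpr a, ← f.cardQ f₁] at this
  exact b (inf_eq_left.mp (eq_of_le_of_card_ge inf_le_left this))

theorem proper (f : NF p r Y R D) (f₁ : NF p r Y R₁ D₁) (hne : D ≠ D₁) (h0 : Zc D ⊓ 𝐍(D₁) ≠ ⊥)
    (a : ¬ Zc D ≤ 𝐍(D₁)) (b : ¬ Zc D₁ ≤ 𝐍(D)) : ∃ P₁, GP Y R₁ D₁ D P₁ := by
  have i : Zc D ⊓ D₁ = ⊥ := eq_bot_iff.mpr fun q hq => by
    by_contra q1
    exact b fun z hz => f.cent hq.1 q1 (f₁.QY hz) (zc_comm hq.2 hz).symm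
  have cA : D₁ ⊓ 𝐍(D) ≤ 𝐂((Zc D ⊓ 𝐍(D₁) : Subgroup Γ)) := fun x hx e he =>
    (comm_of_mem i (cm_right he.1 (norm_le_norm_Zc _ hx.2)) (cm_left hx.1 he.2)).symm
  refine f.h1gp f₁ hne h0 cA (fun x hx => ?_) (f₁.pc1 f a)
  by_contra x1
  have hx2 := f₁.sq hx.1
  have nx := norm_le_norm_Zc _ hx.2
  have key : ∀ q ∈ Zc D, ⁅x, q⁆ ∈ 𝐍(D₁) → q ∈ 𝐍(D₁) := fun q hq h => by
    have hv := cm_right hq nx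
    refine f₁.cent hx2 x1 (f.QY hq) (Eq.symm ?_)
    rw [← commutatorElement_eq_one_iff_mul_comm, ← f.el hv]
    calc ⁅x * x, q⁆ = (x * ⁅x, q⁆) * x⁻¹ * ⁅x, q⁆ := by simp only [commutatorElement_def]; group
      _ = ⁅x, q⁆ * ⁅x, q⁆ := by rw [← cA hx _ ⟨hv, h⟩]; group
  refine a fun q hq => key q hq (key _ (cm_right hq nx) ?_)
  have hv := cm_right hq nx
  have e : ⁅x, ⁅x, q⁆⁆ = ⁅q, x * x⁆ := by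
    have hw := cm_right hq (mul_mem nx nx)
    rw [← commutatorElement_inv (x * x), inv_eq_of_mul_eq_one_right (f.el hw), commutatorElement_def x,
      inv_eq_of_mul_eq_one_right (f.el hv)]
    simp only [commutatorElement_def]; group
  have hw := cm_left hq (mul_mem nx nx)
  rw [e]
  exact f₁.cent hx2 x1 (f.QY hw) (f.inv_cm hw (f₁.el hx2))

theorem l6 (f : NF p r Y R D) (f₁ : NF p r Y R₁ D₁) (hne : D ≠ D₁) : Zc D₁ ⊓ 𝐍(D) = ⊥ := by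
  by_contra h
  have h0 := f.ex0 f₁ h
  have : (∃ P, GP Y R D D₁ P) ∧ ∃ P₁, GP Y R₁ D₁ D P₁ := by
    by_cases b : Zc D₁ ≤ 𝐍(D)
    · have a : Zc D ≤ 𝐍(D₁) := by_contra fun a => f₁.pc2 f a b
      rcases f.fullB f₁ hne a b with ⟨P, g⟩ | ⟨P, g⟩
      · exact ⟨⟨P, g⟩, f.fullA f₁ hne a b g⟩
      · exact ⟨f₁.fullA f hne.symm b a g, P, g⟩
    · exact ⟨f₁.proper f hne.symm h b (f.pc2 f₁ b), f.proper f₁ hne h0 (f.pc2 f₁ b) b⟩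
  obtain ⟨⟨P, g⟩, P₁, g₁⟩ := this
  exact h (f.final f₁ hne g g₁)

end NF

theorem Fr.l6 (h : SC p r Y) (hn : ∀ R D : Subgroup Γ, Fr r Y R D → ¬ D ≤ 𝐂(D)) (f : Fr r Y R D)
    (f₁ : Fr r Y R₁ D₁) (hne : D ≠ D₁) : D₁ ⊓ 𝐂(D₁) ⊓ 𝐍(D) = ⊥ :=
  NF.l6 ⟨h, hn, f⟩ ⟨h, hn, f₁⟩ hne

end Cfsg.Agent.Lib.Fl2
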