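/-
Coprime automorphisms of prime order: the simple configuration, final contradiction.
-/
import Cfsg.Agent.Lib.Fl2.CS0
import Cfsg.Agent.S1911
import Cfsg.Agent.BS.S.Bender
import Cfsg.Agent.FT.PF12b
import Cfsg.Agent.Lib.Transfer.AbelianSylow

set_option autoImplicit false
set_option linter.unusedSectionVars false
set_option linter.style.haveILetI false

namespace Cfsg.Agent.Lib.Fl2

open Cfsg.Agent.Lib.Fl (Sp)
open Subgroup Cfsg.Agent.Lib.Core Cfsg.Agent.Lib.Glaub Cfsg.Agent.Lib.ZJ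
open scoped commutatorElement

universe u

theorem S4.arith {q m : ℕ} {a b : ℕ} (hq : q = 2 ^ b) (hm : m = 2 ^ a) (q4 : 4 ≤ q) (m1 : m ≠ 1)
    (h : q - 1 ∣ q * m - 1) (hle : q * m ≤ q ^ 3) : m = q ∨ m = q ^ 2 := by
  subst hq hm
  have b0 : b ≠ 0 := by rintro rfl; omega
  have a0 : a ≠ 0 := by rintro rfl; exact m1 rfl
  rw [← pow_add] at h
  have h1 := Nat.gcd_eq_left h
  rw [Nat.pow_sub_one_gcd_pow_sub_one] at h1
  have h2 : 2 ^ b.gcd (b + a) = 2 ^ b := by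
    have := Nat.one_le_two_pow (n := b.gcd (b + a))
    omega
  obtain ⟨c, rfl⟩ : b ∣ a := (Nat.dvd_add_right dvd_rfl).1
    (Nat.gcd_eq_left_iff_dvd.1 (Nat.pow_right_injective le_rfl h2))
  rw [← pow_add, ← pow_mul, Nat.pow_le_pow_iff_right one_lt_two] at hle
  have c2 : c ≤ 2 := by
    by_contra! e
    nlinarith [Nat.pos_of_ne_zero b0]
  interval_cases c
  · simp at a0
  · simp
  · exact Or.inr (pow_mul _ _ _)

/-- the Bender end: `Q` elementary, `N(Q)` strongly embedded -/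
theorem S4.bender {G : Type u} [Group G] [Finite G] [IsSimpleGroup G] (hna : ∃ a b : G, a * b ≠ b * a)
    {Q D : Subgroup G} (hH : Cfsg.IsStronglyEmbedded 𝐍(Q)) (hQD : Q < D) (Q1 : Q ≠ ⊥)
    (el : ∀ x ∈ Q, x * x = 1) (hD : IsPGroup 2 D) (h1 : 𝐍(Q) ≤ 𝐍(D)) (h2 : D ≤ 𝐍(Q)) {r : ℕ}
    (hr : r.Prime) (hm : Nat.card D ≡ Nat.card Q [MOD r]) : r ∣ Nat.card G := by
  obtain ⟨Q', D', t, s, r0, h, c, e⟩ := BS.bender_simple hna hH
  have hS : IsSyl 2 Q' 𝐍(Q) := ⟨h.QH, c.two, by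
    rw [h.sdp.relIndex_left]; exact Nat.two_dvd_ne_zero.2 (Nat.odd_iff.1 h.oddD)⟩
  have hDQ : D ≤ Q' := hS.le_of_le_normalizer hD h2 (h.QH.trans h1)
  have hQ : Q = BS.Q0 Q' := by
    refine le_antisymm (fun x hx => (h.mem_Q0 h.rank).2 ⟨hDQ (hQD.le hx), el x hx⟩) fun y hy => ?_
    obtain ⟨x, hx, x1⟩ := (bot_or_exists_ne_one Q).resolve_left Q1
    by_cases y1 : y = 1
    · exact y1 ▸ one_mem _
    obtain ⟨k, ⟨⟨hk, -⟩, rfl⟩, -⟩ := h.exists_K (hDQ (hQD.le hx)) (BS.Q0_le hy)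
      (orderOf_eq_prime (by rw [pow_two, el x hx]) x1) (h.ord_Q0 h.rank hy y1)
    exact conj_mem_of_mem_normalizer (h.DH hk) hx
  have q4 := h.four_le h.rank
  have hK := h.card_KK
  have hd := FT.P12.semiReg_dvd (K := D) (R := BS.KK D' t) (fun k hk k1 => eq_bot_iff.2 fun x hx =>
    h.fpf_K (h.mem_KK.1 hk).1 (h.mem_KK.1 hk).2 k1 (hDQ hx.1)
      (mem_centralizer_singleton_iff.1 hx.2).symm) ((BS.KK_le.trans h.DH).trans h1)
  rw [← hQ] at q4 hK
  obtain ⟨b, hb⟩ := IsPGroup.iff_card.1 (hD.to_le hQD.le)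
  obtain ⟨n, hn⟩ := IsPGroup.iff_card.1 hD
  obtain ⟨a, -, ha⟩ := (Nat.dvd_prime_pow Nat.prime_two).1 (hn ▸ relIndex_dvd_card Q D)
  have hc := card_mul_relIndex hQD.le
  have hle := card_le_of_le hDQ
  have m1 : Q.relIndex D ≠ 1 := fun e => hQD.not_ge (relIndex_eq_one.1 e)
  by_contra hn'
  have r2 : r ≠ 2 := fun e => hn' (e ▸ hH.2.1.two_dvd.trans (card_subgroup_dvd_card _))
  have hrm : r ∣ Q.relIndex D - 1 := by
    have h3 := (Nat.modEq_iff_dvd' (card_le_of_le hQD.le)).1 hm.symm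
    rw [← hc, ← Nat.mul_sub_one, hr.dvd_mul, hb] at h3
    exact h3.resolve_left fun e => r2 ((Nat.prime_dvd_prime_iff_eq hr Nat.prime_two).1
      (hr.dvd_of_dvd_pow e))
  have nK : ¬ r ∣ Nat.card Q - 1 := fun e => hn' (e.trans (by
    rw [← hK, Nat.add_sub_cancel]; exact card_subgroup_dvd_card _))
  have h3 : Nat.card Q' ≤ Nat.card Q ^ 2 ∨ BS.TypeU3 Q' D' t s := by
    rcases c.cases with c | c | c
    · exact Or.inl (by rw [c.eq, ← hQ]; nlinarith)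
    · exact Or.inl (by rw [c.card, ← hQ])
    · exact Or.inr c
  have h4 : Nat.card Q' ≤ Nat.card Q ^ 3 := by
    rcases h3 with h3 | c
    · exact h3.trans (Nat.pow_le_pow_right (by omega) (by omega))
    · rw [c.card, ← hQ]
  rcases S4.arith hb ha q4 m1 (by rw [hc, ← hK, Nat.add_sub_cancel]; exact hd)
    (by rw [hc]; exact hle.trans h4) with e1 | e1
  · exact nK (e1 ▸ hrm)
  rcases h3 with h3 | c
  · rw [← hc, e1] at hle
    nlinarith [hle.trans h3]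
  rw [e1, ← one_pow 2, Nat.sq_sub_sq, hr.dvd_mul] at hrm
  have h5 := hrm.resolve_right nK
  rw [hQ, ← c.cardW, hr.dvd_mul] at h5
  rcases h5 with h5 | h5
  · exact hn' (h5.trans (card_subgroup_dvd_card _))
  · exact hn' ((h5.trans (Nat.gcd_dvd_left _ _)).trans (c.ord ▸ orderOf_dvd_natCard _))

variable {Γ : Type u} [Group Γ] [Finite Γ] {p r : ℕ} [hp : Fact p.Prime] [hr : Fact r.Prime]
variable {Y R D : Subgroup Γ}

theorem SC.exists_ne (h : SC p r Y) : ∃ a b : Y, a * b ≠ b * a := by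
  by_contra! e
  exact h.nab fun a ha => mem_centralizer_iff.2 fun b hb => congrArg Subtype.val (e ⟨b, hb⟩ ⟨a, ha⟩)

theorem SC.isSimple (h : SC p r Y) : IsSimpleGroup Y := by
  haveI : Nontrivial Y := (nontrivial_iff_ne_bot Y).2 fun e => h.nab (e ▸ bot_le)
  refine ⟨fun N hN => ?_⟩
  rcases h.simple _ (map_subtype_le N) (le_normalizer_map_subtype_of_normal N) with e | e
  · exact Or.inl ((map_eq_bot_iff_of_injective N Y.subtype_injective).mp e)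
  · refine Or.inr (map_injective Y.subtype_injective ?_)
    rw [e, ← MonoidHom.range_eq_map, range_subtype]

theorem Fr.fin (h : SC p r Y) (f : Fr r Y R D) (hn : ¬ D ≤ 𝐂(D))
    (H6 : ∀ g ∈ Y, g ∉ 𝐍(D) → cj(g, D ⊓ 𝐂(D)) ⊓ 𝐍(D) = ⊥) : False := by
  haveI := h.isSimple
  have hQY : D ⊓ 𝐂(D) ≤ Y := inf_le_left.trans f.le
  have memN : ∀ g : Y, g ∈ 𝐍((D ⊓ 𝐂(D)).subgroupOf Y) ↔ (g : Γ) ∈ 𝐍(D) := fun g => by
    rw [← subgroupOf_normalizer_eq hQY, mem_subgroupOf]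
    exact ⟨fun e => ((f.normQ h hn).le ⟨g.2, e⟩).2, fun e => ((f.normQ h hn).ge ⟨g.2, e⟩).2⟩
  have Q1 : (D ⊓ 𝐂(D)).subgroupOf Y ≠ ⊥ := fun e => f.Q_ne h (by
    rw [← map_subgroupOf_eq_of_le hQY, e, Subgroup.map_bot])
  have Q2 : IsPGroup 2 ((D ⊓ 𝐂(D)).subgroupOf Y) := isPGroup_subgroupOf (f.two.to_le inf_le_left)
  have hodd : ∀ g : Y, g ∉ 𝐍((D ⊓ 𝐂(D)).subgroupOf Y) →
      cj(g, (D ⊓ 𝐂(D)).subgroupOf Y) ⊓ 𝐍((D ⊓ 𝐂(D)).subgroupOf Y) = ⊥ := fun g hg =>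
    eq_bot_iff.2 fun x hx => Subtype.ext (mem_bot.1 ((H6 g g.2 (fun e => hg ((memN g).2 e))).le
      ⟨mem_map_conj.2 (mem_subgroupOf.1 (mem_map_conj.1 hx.1)), (memN x).1 hx.2⟩))
  have nn : ¬ ((D ⊓ 𝐂(D)).subgroupOf Y).Normal := fun e => by
    rcases e.eq_bot_or_eq_top with e | e
    · exact Q1 e
    · exact (h.norm_lt f.le f.two (f.ne h)).not_ge
        (le_inf le_rfl (((subgroupOf_eq_top.1 e).trans inf_le_left).trans le_normalizer))
  have hse := (S1911.result ((D ⊓ 𝐂(D)).subgroupOf Y)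
    ⟨even_iff_two_dvd.2 (dvd_card_of_isPGroup_of_ne_bot Q2 Q1), fun g hg => by
      rw [eq_bot_iff.2 ((le_inf inf_le_right (inf_le_left.trans le_normalizer)).trans
        (hodd g hg).le), card_bot]
      exact odd_one⟩ fun g hg => by rw [hodd g hg, card_bot]; exact odd_one).resolve_left nn
  rw [(normalClosure_normal.eq_bot_or_eq_top).resolve_left fun e =>
    Q1 (eq_bot_iff.2 (le_normalClosure.trans e.le)), Invol.isStronglyEmbedded_iff] at hse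
  have hse' : Cfsg.IsStronglyEmbedded 𝐍((D ⊓ 𝐂(D)).subgroupOf Y) :=
    Invol.isStronglyEmbedded_iff.2 ⟨fun e => hse.1 (by rw [e, top_subgroupOf]),
      card_subgroupOf (le_top (a := 𝐍((D ⊓ 𝐂(D)).subgroupOf Y))) ▸ hse.2.1, fun g t ht t2 hg =>
        hse.2.2 ⟨g, trivial⟩ ⟨t, trivial⟩ ht (by rw [← t2, ← Subgroup.orderOf_coe]) hg⟩
  refine h.cop (S4.bender h.exists_ne hse' (D := D.subgroupOf Y) (lt_of_le_of_ne
    (comap_mono inf_le_left) fun e => hn fun x hx => (e.ge (show (⟨x, f.le hx⟩ : Y) ∈ _ from hx)).2)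
    Q1 (fun x hx => Subtype.ext ((f.sp h).el x ((f.center h hn).le hx))) (isPGroup_subgroupOf f.two)
    (fun g hg => subgroupOf_normalizer_eq f.le ▸ mem_subgroupOf.2 ((memN g).1 hg))
    (fun g hg => (memN g).2 (le_normalizer hg)) hr.out ?_)
  rw [card_subgroupOf f.le, card_subgroupOf hQY, f.center h hn]
  exact Transfer.card_modEq_card_inf_centralizer (isPGroup_of_card f.card) f.inv

end Cfsg.Agent.Lib.Fl2
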