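/-
Coprime automorphisms of prime order: the simple configuration, `D` is non-abelian.
-/
import Cfsg.Agent.Lib.Fl2.CS4
import Cfsg.Agent.S0215

set_option autoImplicit false
set_option linter.unusedSectionVars false
set_option linter.style.haveILetI false

namespace Cfsg.Agent.Lib.Fl2

open Cfsg.Agent.Lib.Fl (Sp)
open Subgroup Cfsg.Agent.Lib.Core Cfsg.Agent.Lib.Glaub Cfsg.Agent.Lib.ZJ
open scoped commutatorElement

universe u

variable {Γ : Type u} [Group Γ] [Finite Γ] {p r : ℕ} [hp : Fact p.Prime] [hr : Fact r.Prime]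
variable {Y R D : Subgroup Γ}

theorem Fr.nab (h : SC p r Y) (f : Fr r Y R D) : ¬ D ≤ 𝐂(D) := fun ab => by
  haveI := h.isSimple
  have ps : PS Y R D := ⟨f.le, f.two, f.ne h, ab, f.inv, f.eq h⟩
  have MC : Y ⊓ 𝐍(D) ≤ 𝐂(D) := fun m hm => by
    obtain ⟨u, hu, c, hc, rfl⟩ := f.dec h hm
    exact mul_mem (ab hu) (ps.zc h f.card hc)
  obtain ⟨T, hT, hRT, e⟩ := f.ex
  have DT : D ≤ T := e ▸ commutator_le_of_le_normalizer_left hRT
  have TM : T ≤ Y ⊓ 𝐍(D) := le_inf hT.le (e ▸ normalizer_commutator_ge_left T R)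
  have wc : ∀ k ∈ Y, cj(k, D) ≤ T → k ∈ 𝐍(D) := fun k hk hkT => by
    have f₁ := f.conj h k
    have ET : D ⊔ cj(k, D) ≤ T := sup_le DT hkT
    refine map_conj_eq_iff.1 (f.l1 h f₁ (ET.trans hT.le) (hT.isPGroup.to_le ET)
      (fun e => f.ne h (eq_bot_iff.2 (le_sup_left.trans e.le))) ?_ ?_
      (le_sup_left.trans le_normalizer) (le_sup_right.trans le_normalizer)).symm
    · exact le_normalizer_iff_commutator_le_left.2
        (((commutator_mono (ET.trans TM) le_rfl).trans (f.comm_M h).le).trans le_sup_left)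
    · exact le_normalizer_iff_commutator_le_left.2 (((commutator_mono (le_inf (ET.trans hT.le)
        (sup_le ((le_centralizer_iff.1 ((hkT.trans TM).trans MC)).trans
          (centralizer_le_normalizer _)) le_normalizer)) le_rfl).trans
        (f₁.comm_M h).le).trans le_sup_right)
  obtain ⟨x, hx, x1⟩ := (bot_or_exists_ne_one D).resolve_left (f.ne h)
  have xx : x * x = 1 := mem_bot.1 ((ps.fix h f.card).le ⟨mul_mem hx hx, (f.sp h).sq x hx⟩)
  have iso : ∀ g ∈ Y, g * x * g⁻¹ ∈ T → g * x * g⁻¹ = x := fun g hg hy => by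
    have h1 : IsSyl 2 cj(g, T) (Y ⊓ centralizer {g * x * g⁻¹}) :=
      (hT.conj_of_mem_normalizer (le_normalizer hg)).mono (le_inf (map_conj_le_of_le hT.le
        (le_normalizer hg)) (by
          rw [← map_conj_centralizer_singleton]
          exact map_mono ((TM.trans MC).trans (centralizer_le (by simpa using hx))))) inf_le_left
    obtain ⟨c, hc, e⟩ := h1.exists_conj_le f.two (le_inf f.le fun d hd =>
      mem_centralizer_singleton_iff.2 (mem_centralizer_iff.1 (MC (TM hy)) d hd))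
    have hk : g⁻¹ * c ∈ Y := mul_mem (inv_mem hg) hc.1
    have h2 := mem_centralizer_iff.1 (MC ⟨hk, wc _ hk (by
      rw [← map_conj_map_conj]
      exact (map_mono e).trans (map_conj_inv_map_conj T g).le)⟩) x hx
    have h3 := mem_centralizer_singleton_iff.1 hc.2
    calc g * x * g⁻¹ = c⁻¹ * (c * (g * x * g⁻¹)) := by group
      _ = (g⁻¹ * c)⁻¹ * (x * (g⁻¹ * c)) := by rw [h3]; group
      _ = x := by rw [h2]; group
  obtain ⟨P, hP⟩ := hT.exists_sylow
  have ox : orderOf (⟨x, f.le hx⟩ : Y) = 2 :=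
    orderOf_eq_prime (Subtype.ext (by simpa [pow_two] using xx)) fun e => x1 (congrArg Subtype.val e)
  obtain ⟨N, hN, hNo, hz⟩ := S0215.result P ⟨x, f.le hx⟩ ox
    (show _ ∈ (P : Subgroup Y) from hP ▸ DT hx) fun g hg =>
      Subtype.ext (iso g g.2 (mem_subgroupOf.1 (hP.le hg)))
  rcases hN.eq_bot_or_eq_top with rfl | rfl
  · rcases h.simple (Y ⊓ 𝐂(Y)) inf_le_left
      (le_normalizer_inf le_normalizer (le_normalizer_centralizer le_normalizer)) with e | e
    · refine x1 (mem_bot.1 (e.le ⟨f.le hx, mem_centralizer_iff.2 fun g hg => ?_⟩))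
      have : x * g * x⁻¹ * g⁻¹ = 1 := congrArg Subtype.val (mem_bot.1 (hz ⟨g, hg⟩))
      rw [mul_inv_eq_one, mul_inv_eq_iff_eq_mul] at this
      exact this.symm
    · exact h.nab (e.ge.trans inf_le_right)
  · rw [card_top] at hNo
    exact (Nat.not_even_iff_odd.2 hNo) (even_iff_two_dvd.2 (ox ▸ orderOf_dvd_natCard _))

end Cfsg.Agent.Lib.Fl2
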