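/-
The simple configuration does not exist.
-/
import Cfsg.Agent.Lib.Fl2.CS2
import Cfsg.Agent.Lib.Fl2.CS3

set_option autoImplicit false
set_option linter.unusedSectionVars false

namespace Cfsg.Agent.Lib.Fl2

open Cfsg.Agent.Lib.Fl (Sp)
open Subgroup Cfsg.Agent.Lib.Core Cfsg.Agent.Lib.Glaub Cfsg.Agent.Lib.ZJ Cfsg.Agent.FT

universe u
variable {Γ : Type u} [Group Γ] [Finite Γ] {p r : ℕ} [hp : Fact p.Prime] [hr : Fact r.Prime]

theorem SC.false {Y : Subgroup Γ} (h : SC p r Y) : False := by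
  obtain ⟨R, D, f⟩ := h.exFr
  refine f.fin h (f.nab h) fun g _ hg => ?_
  rw [cj_inf, cj_cent]
  exact Fr.l6 h (fun _ _ f => f.nab h) f (f.conj h g) fun e => hg (cj_eq_iff.mp e.symm)

end Cfsg.Agent.Lib.Fl2
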